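import Cfsg.Agent.InvolCalc.LargeTransfer.Frame

/-!
An involution outside a subgroup of index two, and conjugates of the centre in `E`.
-/

set_option autoImplicit false
set_option linter.unusedSectionVars false
set_option linter.style.haveILetI false

namespace Cfsg.Lib.LargeTransfer

open Subgroup

variable {G : Type*} [Group G] [Fintype G] [DecidableEq G]
variable {E : Subgroup G} {z : G} {χ : G → ZMod 2}

/-- Conjugates of the centre in `E` with a form vanishing on their centralizers. -/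
def Flat (E : Subgroup G) (z : G) (χ : G → ZMod 2) : Prop :=
  ∀ c ∈ E, IsConj z c → c ≠ z → (orb E c).card = 2 → ∀ f ∈ E, Commute f c → tw χ z c f = 0

/-- All involutions of the centralizer in the kernel. -/
def NoInvol (z : G) (χ : G → ZMod 2) : Prop := ∀ a, Commute a z → a * a = 1 → χ a = 0

theorem tw_invol {c a : G} (hno : NoInvol z χ) (hc : IsConj z c) (hac : Commute a c)
    (haa : a * a = 1) : tw χ z c a = 0 := by
  refine hno _ (comm_rep hc hac) ?_
  rw [show (rep z c)⁻¹ * a * rep z c * ((rep z c)⁻¹ * a * rep z c) = (rep z c)⁻¹ * (a * a) * rep z c by group,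
    haa]
  group

theorem tw_stab (V : Env E z) (L : Lin z χ) (h32 : 32 ≤ Nat.card E) (hno : NoInvol z χ) {c : G}
    (hc : IsConj z c) (hcz : Commute c z) (h2 : (orb E c).card = 2)
    (hbig : 128 ≤ Nat.card E ∨ ∃ v ∈ E, Commute v c ∧ v * v = z ∧ ∀ f ∈ E, Commute f c → Commute v f) :
    ∀ f ∈ E, Commute f c → tw χ z c f = 0 := fun f hf hfc =>
  stab_kills V hcz h2 h32 hbig (tw χ z c) (fun _ ha _ hb => L.tw_add hc (mem_fc.1 ha).2 (mem_fc.1 hb).2)
    (fun _ ha haa => tw_invol hno hc (mem_fc.1 ha).2 haa) f (mem_fc.2 ⟨hf, hfc⟩)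

theorem flat_of_big (V : Env E z) (L : Lin z χ) (h128 : 128 ≤ Nat.card E) (hno : NoInvol z χ) :
    Flat E z χ := fun _ hcE hc _ h2 =>
  tw_stab V L (by omega) hno hc (V.comm_z hcE) h2 (Or.inl h128)

/-- A character has an involution outside its kernel. -/
theorem exists_invol (V : Env E z) (L : Lin z χ) (h32 : 32 ≤ Nat.card E)
    (hflat : NoInvol z χ → Flat E z χ) (hne : ∃ h, Commute h z ∧ χ h = 1) :
    ∃ x, Commute x z ∧ x * x = 1 ∧ χ x = 1 := by
  classical
  by_contra! hno'
  have h01 : ∀ a : ZMod 2, a ≠ 1 → a = 0 := by decide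
  have hno : NoInvol z χ := fun a ha haa => h01 _ (hno' a ha haa)
  obtain ⟨h, hhz, hh⟩ := hne
  have hpow : ∀ (a : G) (k : ℕ), Commute a z → χ (a ^ k) = k * χ a := by
    intro a k ha
    induction k with
    | zero => simp [L.one]
    | succ k ih => rw [pow_succ, L.add _ _ (ha.pow_left k) ha, ih]; push_cast; ring
  have hex : ∃ n, ∃ x, Commute x z ∧ χ x = 1 ∧ x ^ 2 ^ n = 1 := by
    obtain ⟨n, r, hr, hord⟩ := Nat.exists_eq_two_pow_mul_odd (orderOf_pos h).ne'
    refine ⟨n, h ^ r, hhz.pow_left r, ?_, ?_⟩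
    · obtain ⟨j, rfl⟩ := hr
      rw [hpow _ _ hhz, hh]
      push_cast
      rw [show (2 : ZMod 2) = 0 by decide]
      ring
    · rw [← pow_mul, mul_comm, ← hord, pow_orderOf_eq_one]
  set m := Nat.find hex with hm
  obtain ⟨x, hxz, hx, hxm⟩ := Nat.find_spec hex
  have hx1 : x ≠ 1 := fun e => by rw [e, L.one] at hx; exact zero_ne_one hx
  have hlow : ∀ (g : G) (k : ℕ), 2 ≤ k → k ∣ orderOf x → Commute (g⁻¹ * x ^ k * g) z →
      χ (g⁻¹ * x ^ k * g) = 0 := by
    intro g k hk hdvd hcz
    refine h01 _ fun hc => ?_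
    obtain ⟨i, hi, rfl⟩ := (Nat.dvd_prime_pow Nat.prime_two).1 (hdvd.trans (orderOf_dvd_of_pow_eq_one hxm))
    have hi1 : 1 ≤ i := by
      by_contra h0
      rw [show i = 0 by omega] at hk
      simp at hk
    refine Nat.find_min hex (show m - i < Nat.find hex by omega) ⟨_, hcz, hc, ?_⟩
    rw [show g⁻¹ * x ^ 2 ^ i * g = g⁻¹ * x ^ 2 ^ i * (g⁻¹)⁻¹ by rw [inv_inv], conj_pow, ← pow_mul, ← pow_add,
      show i + (m - i) = Nat.find hex by omega, hxm]
    group
  have h2dvd : 2 ∣ orderOf x := by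
    obtain ⟨i, -, hi⟩ := (Nat.dvd_prime_pow Nat.prime_two).1 (orderOf_dvd_of_pow_eq_one hxm)
    rcases i with - | i
    · exact absurd (orderOf_eq_one_iff.1 (hi.trans (pow_zero 2))) hx1
    · rw [hi, pow_succ]; exact Dvd.intro_left _ rfl
  refine (one_ne_zero (α := ZMod 2)) (hx.symm.trans (total V L hxz hlow fun c O => ?_))
  by_cases h2 : (orb E c).card = 2
  · refine O.sum_two h2 ?_
    by_cases hcE : c ∈ E
    · exact hflat hno c hcE O.cj O.cne h2
    · obtain ⟨-, -, v, hv, -, hvc, hvv, hvf, -, -⟩ := V.outer O.cz hcE h2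
      exact tw_stab V L h32 hno O.cj O.cz h2 (Or.inr ⟨v, hv, hvc, hvv, hvf⟩)
  · refine O.sum_small hxm (tw_invol hno O.cj O.cz.symm V.x2.zz) (fun g hg => ?_) h2
    have := hlow g 2 le_rfl h2dvd
    rw [pow_two] at this
    exact this hg

/-- No orbit of length two when `z` has no other conjugate in `E`. -/
theorem no_two (V : Env E z) (h128 : 128 ≤ Nat.card E) (hweak : ∀ g : G, g * z * g⁻¹ ∈ E → g * z * g⁻¹ = z)
    {c : G} (hc : IsConj z c) (hcne : c ≠ z) (hcz : Commute c z) (h2 : (orb E c).card = 2) : False := by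
  classical
  obtain ⟨g, rfl⟩ := isConj_iff.1 hc
  set c := g * z * g⁻¹ with hcdef
  have hcE : c ∉ E := fun h => hcne (hweak g h)
  obtain ⟨e₀, he₀, v, hv, he₀c, hvc, hvv, hvf, hev, hcls⟩ := V.outer hcz hcE h2
  set E' := E.map (MulAut.conj g).toMonoidHom with hE'
  have hmem : ∀ w, w ∈ E' ↔ g⁻¹ * w * g ∈ E := fun w => conj_eq_mem g
  have hzE' : z ∉ E' := fun h => by
    have h1 := hweak g⁻¹ (by simpa using (hmem z).1 h)
    have h1' : g⁻¹ * z * g = z := by simpa using h1
    refine hcne ?_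
    calc c = g * (g⁻¹ * z * g) * g⁻¹ := by rw [h1']
      _ = z := by group
  have hX := V.x2.conj g
  have hfN : ∀ f, Commute f c → ∀ u ∈ E', f * u * f⁻¹ ∈ E' := by
    intro f hf u hu
    rw [hmem] at hu ⊢
    have := V.conjE (commute_conj_iff.2 hf) hu
    convert this using 1
    group
  have hA : ∀ a ∈ E, a ∈ E' → a = 1 := by
    intro a ha ha'
    have haa : a * a = 1 := (V.x2.sq a ha).resolve_right fun h => hzE' (h ▸ E'.mul_mem ha' ha')
    have hac : Commute a c := hX.central a ha'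
    have hcomm : ∀ f ∈ E, Commute f c → Commute a f := by
      intro f hf hfc
      rcases V.x2.conj_cases hf ha with h | h
      · exact (conj_fix_iff.1 h).symm
      · exact absurd ((E'.mul_mem_cancel_right ha').1 (h ▸ hfN f hfc a ha')) hzE'
    rcases hcls a ha hcomm with h | h | h | h
    · exact h
    · exact absurd (h ▸ ha') hzE'
    · rw [h, hvv] at haa; exact absurd haa V.x2.ne
    · rw [h, show z * v * (z * v) = z * (v * z) * v by group, (V.comm_z hv).eq, ← mul_assoc z z, V.x2.zz,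
        one_mul, hvv] at haa
      exact absurd haa V.x2.ne
  have hcomm : ∀ y ∈ E', Commute y z → ∀ f ∈ E, Commute f c → Commute y f := by
    intro y hy hyz f hf hfc
    have h1 : f * y * f⁻¹ * y⁻¹ = 1 := by
      refine hA _ ?_ (E'.mul_mem (hfN f hfc y hy) (E'.inv_mem hy))
      rw [show f * y * f⁻¹ * y⁻¹ = f * (y * f⁻¹ * y⁻¹) by group]
      exact E.mul_mem hf (V.conjE hyz (E.inv_mem hf))
    exact (conj_fix_iff.1 (mul_inv_eq_one.1 h1)).symm
  have hgenE : ∀ e ∈ E, Commute e c ∨ Commute (e₀⁻¹ * e) c := by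
    intro e he
    have h1 : ({c, e₀ * c * e₀⁻¹} : Finset G) ⊆ orb E c := by
      intro w hw
      simp only [Finset.mem_insert, Finset.mem_singleton] at hw
      rcases hw with rfl | rfl
      exacts [self_mem_orb E _, mem_orb.2 ⟨e₀, he₀, rfl⟩]
    have h3 := Finset.eq_of_subset_of_card_le h1
      (by rw [h2, Finset.card_pair fun h => he₀c (conj_fix_iff.1 h.symm)])
    have : e * c * e⁻¹ ∈ orb E c := mem_orb.2 ⟨e, he, rfl⟩
    rw [← h3, Finset.mem_insert, Finset.mem_singleton] at this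
    rcases this with h | h
    · exact Or.inl (conj_fix_iff.1 h)
    · exact Or.inr (conj_eq_iff.1 h.symm)
  have hinE : ∀ w, (∀ f ∈ E, Commute f c → Commute w f) → Commute w e₀ → w ∈ E := by
    intro w hw hwe
    refine V.cen (mem_centralizer_iff.2 fun e he => ?_)
    rcases hgenE e he with h | h
    · exact (hw e he h).eq.symm
    · have := hwe.mul_right (hw _ (E.mul_mem (E.inv_mem he₀) he) h)
      rw [mul_inv_cancel_left] at this
      exact this.eq.symm
  have hd : ∀ y ∈ E', Commute y z → y ≠ 1 → y * e₀ * y⁻¹ = e₀ * v ∨ y * e₀ * y⁻¹ = e₀ * (z * v) := by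
    intro y hy hyz hy1
    set d := e₀⁻¹ * (y * e₀ * y⁻¹) with hd
    have hye : y * e₀ * y⁻¹ ∈ E := V.conjE hyz he₀
    have hde : y * e₀ * y⁻¹ = e₀ * d := by rw [hd, mul_inv_cancel_left]
    have hdf : ∀ f ∈ E, Commute f c → Commute d f := by
      intro f hf hfc
      have hyf := hcomm y hy hyz f hf hfc
      refine V.commute_mul (E.inv_mem he₀) hye hf ?_
      rw [Commute.inv_left_iff]
      constructor
      · intro h
        exact (hyf.mul_left h).mul_left hyf.inv_left
      · intro h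
        have := (hyf.inv_left.mul_left h).mul_left hyf
        simpa [mul_assoc] using this
    rcases hcls d (E.mul_mem (E.inv_mem he₀) hye) hdf with h | h | h | h
    · rw [h, mul_one] at hde
      exact absurd (hA y (hinE y (hcomm y hy hyz) (conj_fix_iff.1 hde)) hy) hy1
    · rw [h] at hde
      have hv' : v * e₀ * v⁻¹ = z * e₀ := V.x2.not_commute_conj hv he₀ (fun h => hev h.symm)
      have h1 : Commute (y * v) e₀ := by
        refine conj_fix_iff.1 ?_
        rw [show y * v * e₀ * (y * v)⁻¹ = y * (v * e₀ * v⁻¹) * y⁻¹ by group, hv',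
          show y * (z * e₀) * y⁻¹ = (y * z * y⁻¹) * (y * e₀ * y⁻¹) by group, conj_fix hyz, hde,
          (V.comm_z he₀).eq, ← mul_assoc, V.x2.zz, one_mul]
      have h3 := hinE (y * v) (fun f hf hfc => (hcomm y hy hyz f hf hfc).mul_left (hvf f hf hfc)) h1
      exact absurd (hA y ((E.mul_mem_cancel_right hv).1 h3) hy) hy1
    · exact Or.inl (h ▸ hde)
    · exact Or.inr (h ▸ hde)
  have huniq : ∀ y ∈ E', Commute y z → y ≠ 1 → ∀ y' ∈ E', Commute y' z → y' ≠ 1 → y = y' := by
    intro y hy hyz hy1 y' hy' hyz' hy1'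
    by_contra hne
    set w := y⁻¹ * y' with hw
    have hw1 : w ≠ 1 := fun h => hne (inv_mul_eq_one.1 h)
    have hwE' : w ∈ E' := E'.mul_mem (E'.inv_mem hy) hy'
    have hwz : Commute w z := hyz.inv_left.mul_left hyz'
    have hyv : y⁻¹ * v * y = v := by
      rw [mul_assoc, ← (hcomm y hy hyz v hv hvc).eq, inv_mul_cancel_left]
    have hyzz : y⁻¹ * z * y = z := by rw [mul_assoc, ← hyz.eq, inv_mul_cancel_left]
    have e1 : w * e₀ * w⁻¹ = y⁻¹ * (y' * e₀ * y'⁻¹) * y := by rw [hw]; group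
    have key : w * e₀ * w⁻¹ = e₀ ∨ w * e₀ * w⁻¹ = e₀ * z := by
      have hvz := (V.comm_z hv).eq
      rcases hd y hy hyz hy1 with a | a <;> rcases hd y' hy' hyz' hy1' with b | b <;> rw [e1, b]
      · left
        calc y⁻¹ * (e₀ * v) * y = y⁻¹ * (y * e₀ * y⁻¹) * y := by rw [a]
          _ = e₀ := by group
      · right
        calc y⁻¹ * (e₀ * (z * v)) * y = y⁻¹ * (e₀ * v * z) * y := by rw [← hvz, ← mul_assoc e₀ v z]
          _ = y⁻¹ * (y * e₀ * y⁻¹ * z) * y := by rw [a]
          _ = e₀ * (y⁻¹ * z * y) := by group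
          _ = e₀ * z := by rw [hyzz]
      · right
        calc y⁻¹ * (e₀ * v) * y = y⁻¹ * (e₀ * (z * v) * z) * y := by
              rw [← hvz, mul_assoc e₀, mul_assoc v, V.x2.zz, mul_one]
          _ = y⁻¹ * (y * e₀ * y⁻¹ * z) * y := by rw [a]
          _ = e₀ * (y⁻¹ * z * y) := by group
          _ = e₀ * z := by rw [hyzz]
      · left
        calc y⁻¹ * (e₀ * (z * v)) * y = y⁻¹ * (y * e₀ * y⁻¹) * y := by rw [a]
          _ = e₀ := by group
    rcases hd w hwE' hwz hw1 with h | h <;> rcases key with k | k <;> rw [k] at h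
    · have : v = 1 := mul_eq_left.1 h.symm
      rw [this, one_mul] at hvv; exact V.x2.ne hvv.symm
    · have : z = v := mul_left_cancel h
      rw [← this, V.x2.zz] at hvv; exact V.x2.ne hvv.symm
    · have : z * v = 1 := mul_eq_left.1 h.symm
      rw [show v = z⁻¹ from eq_inv_of_mul_eq_one_right this, V.x2.inv_z, V.x2.zz] at hvv
      exact V.x2.ne hvv.symm
    · have : z = z * v := mul_left_cancel h
      rw [mul_eq_left.1 this.symm, one_mul] at hvv; exact V.x2.ne hvv.symm
  -- counting in the conjugate group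
  have hcardE' : Nat.card E' = Nat.card E := Subgroup.card_map_of_injective (MulAut.conj g).injective
  have hF' : (fc E' z).card ≤ 2 := by
    by_contra! h3
    obtain ⟨a, b, d, ha, hb, hdd, hab, had, hbd⟩ := Finset.two_lt_card_iff.1 h3
    obtain ⟨ha, ha'⟩ := mem_fc.1 ha
    obtain ⟨hb, hb'⟩ := mem_fc.1 hb
    obtain ⟨hdd, hdd'⟩ := mem_fc.1 hdd
    by_cases a1 : a = 1
    · exact hbd (huniq b hb hb' (fun e => hab (a1.trans e.symm)) d hdd hdd' (fun e => had (a1.trans e.symm)))
    by_cases b1 : b = 1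
    · exact had (huniq a ha ha' a1 d hdd hdd' (fun e => hbd (b1.trans e.symm)))
    exact hab (huniq a ha ha' a1 b hb hb' b1)
  have hzc : Commute z c := hcz.symm
  have horb : (orb E' z).card ≤ 4 := by
    set S := (Finset.univ.filter (· ∈ E')).filter fun d => z * d * z⁻¹ = d⁻¹ with hS
    have h1 : (orb E' z).card ≤ S.card := by
      refine Finset.card_le_card_of_injOn (fun q => q * z⁻¹) ?_ fun a _ b _ h => mul_right_cancel h
      intro q hq
      obtain ⟨e, he, rfl⟩ := mem_orb.1 (Finset.mem_coe.1 hq)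
      simp only [hS, Finset.coe_filter, Finset.mem_filter, Finset.mem_univ, true_and, Set.mem_setOf_eq]
      refine ⟨?_, ?_⟩
      · rw [show e * z * e⁻¹ * z⁻¹ = e * (z * e⁻¹ * z⁻¹) by group]
        exact E'.mul_mem he (hfN z hzc _ (E'.inv_mem he))
      · have hzi := V.x2.inv_z
        calc z * (e * z * e⁻¹ * z⁻¹) * z⁻¹ = z * e * z * e⁻¹ * (z * z)⁻¹ := by group
          _ = z * e * z⁻¹ * e⁻¹ := by rw [V.x2.zz, hzi, inv_one, mul_one]
          _ = _ := by group
    have hcases : ∀ d ∈ S, Commute d z ∨ z * d * z⁻¹ = c * d := by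
      intro d hd'
      simp only [hS, Finset.mem_filter, Finset.mem_univ, true_and] at hd'
      rcases hX.sq d hd'.1 with h | h
      · left
        rw [inv_eq_of_mul_eq_one_right h] at hd'
        exact (conj_fix_iff.1 hd'.2).symm
      · right
        have e : d⁻¹ = c * d := by
          refine inv_eq_of_mul_eq_one_right ?_
          rw [← mul_assoc, (hX.central d hd'.1).eq, mul_assoc, h, hX.zz]
        exact hd'.2.trans e
    have h2' : (S.filter fun d => ¬ Commute d z).card ≤ (fc E' z).card := by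
      rcases Finset.eq_empty_or_nonempty (S.filter fun d => ¬ Commute d z) with h | ⟨d₀, hd₀⟩
      · simp [h]
      refine Finset.card_le_card_of_injOn (fun d => d₀⁻¹ * d) ?_ fun a _ b _ h => mul_left_cancel h
      intro d hd'
      obtain ⟨d1, d2⟩ := Finset.mem_filter.1 (Finset.mem_coe.1 hd')
      obtain ⟨d01, d02⟩ := Finset.mem_filter.1 hd₀
      have k1 := (hcases d d1).resolve_left d2
      have k2 := (hcases d₀ d01).resolve_left d02
      simp only [hS, Finset.mem_filter, Finset.mem_univ, true_and] at d1 d01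
      refine Finset.mem_coe.2 (mem_fc.2 ⟨E'.mul_mem (E'.inv_mem d01.1) d1.1, ?_⟩)
      refine (conj_fix_iff.1 ?_).symm
      calc z * (d₀⁻¹ * d) * z⁻¹ = (z * d₀ * z⁻¹)⁻¹ * (z * d * z⁻¹) := by group
        _ = d₀⁻¹ * d := by rw [k1, k2]; group
    have h3 : (S.filter fun d => Commute d z).card ≤ (fc E' z).card :=
      Finset.card_le_card fun d hd' => by
        obtain ⟨d1, d2⟩ := Finset.mem_filter.1 hd'
        simp only [hS, Finset.mem_filter, Finset.mem_univ, true_and] at d1
        exact mem_fc.2 ⟨d1.1, d2⟩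
    have := Finset.card_filter_add_card_filter_not (s := S) (fun d => Commute d z)
    omega
  have hprod := card_orb_fc E' z
  have := Nat.mul_le_mul horb hF'
  omega

end Cfsg.Lib.LargeTransfer
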