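import Cfsg.Agent.InvolCalc.LargeTransfer.Orbit

/-!
Elementary facts about large extraspecial subgroups and centralizers of conjugates in them.
-/

set_option autoImplicit false
set_option linter.unusedSectionVars false
set_option linter.style.haveILetI false

namespace Cfsg.Lib.LargeTransfer

open Subgroup

variable {G : Type*} [Group G] [Fintype G] [DecidableEq G]
variable {E : Subgroup G} {z : G}

theorem Env.conjE (V : Env E z) {h e : G} (hh : Commute h z) (he : e ∈ E) : h * e * h⁻¹ ∈ E :=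
  (mem_normalizer_iff.1 (V.norm (mem_centralizer_singleton_iff.2 hh.eq)) e).1 he

theorem Env.comm_z (V : Env E z) {e : G} (he : e ∈ E) : Commute e z := V.x2.central e he

theorem Env.cent_all (V : Env E z) {w : G} (h : ∀ e ∈ E, Commute e w) : w = 1 ∨ w = z :=
  V.x2.cen w (V.cen (mem_centralizer_iff.2 fun e he => h e he)) h

theorem Env.central' (V : Env E z) {w : G} (hw : w = 1 ∨ w = z) {e : G} (he : e ∈ E) : Commute e w := by
  rcases hw with rfl | rfl
  · exact Commute.one_right e
  · exact V.comm_z he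

theorem Env.commute_mul (V : Env E z) {a b w : G} (ha : a ∈ E) (hb : b ∈ E) (hw : w ∈ E)
    (h : Commute a w ↔ Commute b w) : Commute (a * b) w := by
  by_cases h1 : Commute a w
  · exact h1.mul_left (h.1 h1)
  · exact V.x2.commute_mul ha hb hw h1 (fun h2 => h1 (h.2 h2))

theorem Env.not_comm_conj (V : Env E z) {a b : G} (ha : a ∈ E) (hb : b ∈ E) (h : ¬ Commute a b) :
    a⁻¹ * b * a = z * b := by
  simpa using V.x2.not_commute_conj (E.inv_mem ha) hb (fun h' => h (by simpa using h'.inv_left))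

theorem Env.sq_mul (V : Env E z) {a b : G} (ha : a ∈ E) (hb : b ∈ E) :
    (Commute a b → a * b * (a * b) = a * a * (b * b)) ∧
      (¬ Commute a b → a * b * (a * b) = z * (a * a * (b * b))) := by
  constructor
  · intro h
    rw [mul_assoc a b (a * b), ← mul_assoc b a b, ← h.eq]
    group
  · intro h
    have h1 : a⁻¹ * b * a = z * b := V.not_comm_conj ha hb h
    calc a * b * (a * b) = a * a * (a⁻¹ * b * a) * b := by group
      _ = a * a * z * (b * b) := by rw [h1]; group
      _ = _ := by rw [(V.comm_z (E.mul_mem ha ha)).eq]; group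

open Classical in
/-- A commuting set separated by few elements is small. -/
theorem Env.card_le (V : Env E z) (A : Finset G) (T : Finset G) (hA : ∀ a ∈ A, a ∈ E)
    (hT : ∀ t ∈ T, t ∈ E) (hc : ∀ a ∈ A, ∀ b ∈ A, Commute a b)
    (hgen : ∀ w ∈ E, (∀ a ∈ A, Commute w a) → (∀ t ∈ T, Commute w t) → w = 1 ∨ w = z) :
    A.card ≤ 2 * 2 ^ T.card := by
  let φ : G → Finset G := fun a => T.filter fun t => ¬ Commute a t
  refine (Finset.card_le_mul_card_image (f := φ) A 2 fun p hp => ?_).trans
    (Nat.mul_le_mul le_rfl ((Finset.card_le_card (Finset.image_subset_iff.2 fun a _ =>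
      Finset.mem_powerset.2 (Finset.filter_subset _ _))).trans_eq (Finset.card_powerset T)))
  obtain ⟨a, ha, rfl⟩ := Finset.mem_image.1 hp
  refine (Finset.card_le_card (t := ({a, a * z} : Finset G)) fun b hb => ?_).trans Finset.card_le_two
  rw [Finset.mem_filter] at hb
  have h := hgen (a⁻¹ * b) (E.mul_mem (E.inv_mem (hA a ha)) (hA b hb.1))
    (fun w hw => (hc a ha w hw).inv_left.mul_left (hc b hb.1 w hw)) (fun t ht => by
      refine V.commute_mul (E.inv_mem (hA a ha)) (hA b hb.1) (hT t ht) ?_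
      have e := Finset.ext_iff.1 hb.2 t
      simp only [φ, Finset.mem_filter, ht, true_and, not_iff_not] at e
      rw [Commute.inv_left_iff]
      exact e.symm)
  simp only [Finset.mem_insert, Finset.mem_singleton]
  rcases h with h | h
  · exact Or.inl (inv_mul_eq_one.1 h).symm
  · exact Or.inr (inv_mul_eq_iff_eq_mul.1 h)

open Classical in
/-- The centralizer of `c` in `E`. -/
noncomputable def fc (E : Subgroup G) (c : G) : Finset G :=
  (Finset.univ.filter (· ∈ E)).filter fun e => Commute e c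

theorem mem_fc {E : Subgroup G} {c e : G} : e ∈ fc E c ↔ e ∈ E ∧ Commute e c := by
  simp [fc]

theorem card_orb_fc (E : Subgroup G) (c : G) : (orb E c).card * (fc E c).card = Nat.card E := by
  classical
  exact card_img E c

/-- Small orbits have non-abelian stabilizers. -/
theorem Env.noncomm_stab (V : Env E z) {c : G} (hsmall : 2 ^ (orb E c).card * (orb E c).card < Nat.card E) :
    ∃ a ∈ E, ∃ b ∈ E, Commute a c ∧ Commute b c ∧ ¬ Commute a b := by
  classical
  by_contra! hno
  have hpre : ∀ q ∈ orb E c, ∃ w ∈ E, w * c * w⁻¹ = q := fun q hq => mem_orb.1 hq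
  let w : G → G := fun q => if h : q ∈ orb E c then (hpre q h).choose else 1
  set T := ((orb E c).erase c).image w
  have hwE : ∀ q, w q ∈ E := fun q => by
    by_cases h : q ∈ orb E c
    · simp only [w, dif_pos h]; exact (hpre q h).choose_spec.1
    · simp only [w, dif_neg h]; exact E.one_mem
  have hT : ∀ t ∈ T, t ∈ E := fun t ht => by
    obtain ⟨q, -, rfl⟩ := Finset.mem_image.1 ht
    exact hwE q
  have h := V.card_le (fc E c) T (fun a ha => (mem_fc.1 ha).1) hT
    (fun a ha b hb => hno a (mem_fc.1 ha).1 b (mem_fc.1 hb).1 (mem_fc.1 ha).2 (mem_fc.1 hb).2)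
    (fun u _ hA hTc => by
      refine V.cent_all fun e he => ?_
      by_cases hec : Commute e c
      · exact (hA e (mem_fc.2 ⟨he, hec⟩)).symm
      · set q := e * c * e⁻¹
        have hq : q ∈ orb E c := mem_orb.2 ⟨e, he, rfl⟩
        have hq' : q ∈ (orb E c).erase c := Finset.mem_erase.2 ⟨fun h => hec (conj_fix_iff.1 h), hq⟩
        have hwq : w q * c * (w q)⁻¹ = q := by
          simp only [w, dif_pos hq]; exact (hpre q hq).choose_spec.2
        have h1 : Commute ((w q)⁻¹ * e) c := conj_eq_iff.1 hwq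
        have h2 := (hTc _ (Finset.mem_image_of_mem w hq')).mul_right
          (hA _ (mem_fc.2 ⟨E.mul_mem (E.inv_mem (hwE q)) he, h1⟩))
        rw [mul_inv_cancel_left] at h2
        exact h2.symm)
  have hTc : T.card + 1 ≤ (orb E c).card := by
    have h1 := Finset.card_image_le (s := (orb E c).erase c) (f := w)
    rw [Finset.card_erase_of_mem (self_mem_orb E c)] at h1
    have := Finset.card_pos.2 ⟨_, self_mem_orb E c⟩
    simp only [T]
    omega
  have h2 : (fc E c).card ≤ 2 ^ (orb E c).card := h.trans (by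
    rw [← pow_succ']
    exact Nat.pow_le_pow_right (by norm_num) hTc)
  rw [← card_orb_fc E c, mul_comm] at hsmall
  exact absurd (Nat.lt_of_mul_lt_mul_left hsmall) (not_lt.2 h2)

variable {χ : G → ZMod 2}

theorem tw_z_zero (V : Env E z) (L : Lin z χ) {c a b : G} (hc : IsConj z c) (hcz : Commute c z)
    (ha : a ∈ E) (hb : b ∈ E) (hac : Commute a c) (hbc : Commute b c) (hn : ¬ Commute a b) :
    tw χ z c z = 0 := by
  have h := V.not_comm_conj ha hb hn
  have h1 : tw χ z c (a⁻¹ * b * a) = tw χ z c b := by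
    rw [L.tw_add hc (hac.inv_left.mul_left hbc) hac, L.tw_add hc hac.inv_left hbc, L.tw_inv hc hac,
      add_right_comm, z2_add_self, zero_add]
  rw [h, L.tw_add hc hcz.symm hbc] at h1
  exact add_eq_right.1 h1

/-- An element centralizing a hyperplane. -/
theorem Env.half (V : Env E z) {c : G} (hcz : Commute c z) (h2 : (orb E c).card = 2) :
    ∃ e₀ ∈ E, ∃ v ∈ E, ¬ Commute e₀ c ∧ Commute v c ∧ (∀ f ∈ E, Commute f c → Commute v f) ∧
      v * e₀ * v⁻¹ = z * e₀ ∧ (∀ e ∈ E, Commute e c ∨ Commute (e₀⁻¹ * e) c) ∧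
      ∀ w ∈ E, (∀ f ∈ E, Commute f c → Commute w f) → w = 1 ∨ w = z ∨ w = v ∨ w = z * v := by
  classical
  obtain ⟨q, hq, hqc⟩ := Finset.exists_mem_ne (by omega : 1 < (orb E c).card) c
  obtain ⟨e₀, he₀, rfl⟩ := mem_orb.1 hq
  have he₀c : ¬ Commute e₀ c := fun h => hqc (conj_fix h)
  have horb : orb E c = {c, e₀ * c * e₀⁻¹} := by
    refine (Finset.eq_of_subset_of_card_le ?_ ?_).symm
    · intro q hq
      simp only [Finset.mem_insert, Finset.mem_singleton] at hq
      rcases hq with rfl | rfl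
      exacts [self_mem_orb E _, mem_orb.2 ⟨e₀, he₀, rfl⟩]
    · rw [h2, Finset.card_pair (Ne.symm hqc)]
  have hgen : ∀ e ∈ E, Commute e c ∨ Commute (e₀⁻¹ * e) c := by
    intro e he
    have : e * c * e⁻¹ ∈ orb E c := mem_orb.2 ⟨e, he, rfl⟩
    rw [horb, Finset.mem_insert, Finset.mem_singleton] at this
    rcases this with h | h
    · exact Or.inl (conj_fix_iff.1 h)
    · exact Or.inr (conj_eq_iff.1 h.symm)
  set F := E ⊓ centralizer ({c} : Set G) with hF
  have hmemF : ∀ f, f ∈ F ↔ f ∈ E ∧ Commute f c := fun f => by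
    rw [hF, mem_inf, mem_centralizer_singleton_iff]
    rfl
  obtain ⟨v, hv, hvF, hve⟩ := V.x2.exists_split (H := F) inf_le_left ((hmemF z).2 ⟨V.x2.mem, hcz.symm⟩) he₀
    (fun h => he₀c ((hmemF e₀).1 h).2)
  have hvn : ¬ Commute v e₀ := fun h => V.x2.ne (mul_eq_right.1 ((conj_fix h).symm.trans hve).symm)
  have hcomm_all : ∀ w, (∀ f ∈ E, Commute f c → Commute w f) → Commute w e₀ → ∀ e ∈ E, Commute e w := by
    intro w hw hwe e he
    rcases hgen e he with h | h
    · exact (hw e he h).symm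
    · have := hwe.mul_right (hw _ (E.mul_mem (E.inv_mem he₀) he) h)
      rw [mul_inv_cancel_left] at this
      exact this.symm
  have hvf : ∀ f ∈ E, Commute f c → Commute v f := fun f hf hfc => hvF f ((hmemF f).2 ⟨hf, hfc⟩)
  have hvc : Commute v c := by
    rcases hgen v hv with h | h
    · exact h
    · exfalso
      have h1 : Commute v (e₀⁻¹ * v) := hvf _ (E.mul_mem (E.inv_mem he₀) hv) h
      have h2 := h1.mul_right (Commute.refl v).inv_right
      rw [mul_inv_cancel_right] at h2
      exact hvn (Commute.inv_right_iff.1 h2)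
  have hvi : v⁻¹ = v ∨ v⁻¹ = z * v := by
    rcases V.x2.sq v hv with h | h
    · exact Or.inl (inv_eq_of_mul_eq_one_right h)
    · exact Or.inr (inv_eq_of_mul_eq_one_right (by rw [← mul_assoc, (V.comm_z hv).eq, mul_assoc, h, V.x2.zz]))
  have hcls : ∀ w ∈ E, (∀ f ∈ E, Commute f c → Commute w f) → w = 1 ∨ w = z ∨ w = v ∨ w = z * v := by
    intro w hw hwf
    by_cases h : Commute w e₀
    · rcases V.cent_all (hcomm_all w hwf h) with e | e
      · exact Or.inl e
      · exact Or.inr (Or.inl e)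
    · have h' : Commute (w * v) e₀ := V.commute_mul hw hv he₀ (iff_of_false h hvn)
      rcases V.cent_all (hcomm_all _ (fun f hf hfc => (hwf f hf hfc).mul_left (hvf f hf hfc)) h') with e | e
      · have e' : w = v⁻¹ := eq_inv_of_mul_eq_one_left e
        rcases hvi with i | i
        · exact Or.inr (Or.inr (Or.inl (e'.trans i)))
        · exact Or.inr (Or.inr (Or.inr (e'.trans i)))
      · have e' : w = z * v⁻¹ := eq_mul_inv_of_mul_eq e
        rcases hvi with i | i
        · exact Or.inr (Or.inr (Or.inr (e'.trans (by rw [i]))))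
        · exact Or.inr (Or.inr (Or.inl (e'.trans (by rw [i, ← mul_assoc, V.x2.zz, one_mul]))))
  exact ⟨e₀, he₀, v, hv, he₀c, hvc, hvf, hve, hgen, hcls⟩

/-- An outer element centralizing a hyperplane. -/
theorem Env.outer (V : Env E z) {c : G} (hcz : Commute c z) (hcE : c ∉ E) (h2 : (orb E c).card = 2) :
    ∃ e₀ ∈ E, ∃ v ∈ E, ¬ Commute e₀ c ∧ Commute v c ∧ v * v = z ∧ (∀ f ∈ E, Commute f c → Commute v f) ∧
      ¬ Commute e₀ v ∧
      ∀ w ∈ E, (∀ f ∈ E, Commute f c → Commute w f) → w = 1 ∨ w = z ∨ w = v ∨ w = z * v := by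
  classical
  obtain ⟨e₀, he₀, v, hv, he₀c, hvc, hvf, hve, hgen, hcls⟩ := V.half hcz h2
  have hvn : ¬ Commute v e₀ := fun h => V.x2.ne (mul_eq_right.1 ((conj_fix h).symm.trans hve).symm)
  have hcomm_all : ∀ w, (∀ f ∈ E, Commute f c → Commute w f) → Commute w e₀ → ∀ e ∈ E, Commute e w := by
    intro w hw hwe e he
    rcases hgen e he with h | h
    · exact (hw e he h).symm
    · have := hwe.mul_right (hw _ (E.mul_mem (E.inv_mem he₀) he) h)
      rw [mul_inv_cancel_left] at this
      exact this.symm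
  refine ⟨e₀, he₀, v, hv, he₀c, hvc, ?_, hvf, fun h => hvn h.symm, hcls⟩
  set d := e₀⁻¹ * (c * e₀ * c⁻¹) with hd
  have hdE : d ∈ E := E.mul_mem (E.inv_mem he₀) (V.conjE hcz he₀)
  have hdf : ∀ f ∈ E, Commute f c → Commute d f := by
    intro f hf hfc
    have hce : c * e₀ * c⁻¹ ∈ E := V.conjE hcz he₀
    refine V.commute_mul (E.inv_mem he₀) hce hf ?_
    rw [Commute.inv_left_iff]
    constructor
    · intro h
      have := h.map (MulAut.conj c).toMonoidHom
      simpa [conj_fix hfc.symm] using this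
    · intro h
      have := h.map (MulAut.conj c⁻¹).toMonoidHom
      have e1 : MulAut.conj c⁻¹ f = f := by rw [MulAut.conj_apply]; exact conj_fix hfc.symm.inv_left
      simpa [e1, mul_assoc, hfc.eq] using this
  have hce : c * e₀ * c⁻¹ = e₀ * d := by rw [hd, mul_inv_cancel_left]
  have hdn : ¬ Commute e₀ d := by
    intro h
    rcases V.cent_all (hcomm_all d hdf h.symm) with e | e
    · refine hcE (V.cen (mem_centralizer_iff.2 fun u hu => ?_))
      rw [e, mul_one] at hce
      rcases hgen u hu with h' | h'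
      · exact h'.eq
      · have := Commute.mul_left (show Commute e₀ c from (mul_inv_eq_iff_eq_mul.1 hce).symm) h'
        rw [mul_inv_cancel_left] at this
        exact this.eq
    · have hcv : Commute e₀ (c * v) := by
        refine (conj_fix_iff.1 ?_).symm
        rw [show c * v * e₀ * (c * v)⁻¹ = c * (v * e₀ * v⁻¹) * c⁻¹ by group, hve,
          show c * (z * e₀) * c⁻¹ = (c * z * c⁻¹) * (c * e₀ * c⁻¹) by group, conj_fix hcz, hce, e,
          (V.comm_z he₀).eq, ← mul_assoc, V.x2.zz, one_mul]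
      have : c * v ∈ E := V.cen (mem_centralizer_iff.2 fun u hu => by
        rcases hgen u hu with h' | h'
        · exact (h'.mul_right (hvf u hu h').symm).eq
        · have := hcv.mul_left (h'.mul_right (hvf _ (E.mul_mem (E.inv_mem he₀) hu) h').symm)
          rw [mul_inv_cancel_left] at this
          exact this.eq)
      exact hcE ((E.mul_mem_cancel_right hv).1 this)
  have hee : Commute c (e₀ * e₀) := by
    rcases V.x2.sq e₀ he₀ with h | h <;> rw [h]
    · exact Commute.one_right c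
    · exact hcz
  have h1 : e₀ * d * (e₀ * d) = e₀ * e₀ := by
    rw [← hce, show c * e₀ * c⁻¹ * (c * e₀ * c⁻¹) = c * (e₀ * e₀) * c⁻¹ by group, conj_fix hee]
  rw [(V.sq_mul he₀ hdE).2 hdn] at h1
  have hdd : d * d = z := by
    rcases V.x2.sq d hdE with h | h
    · exfalso
      rw [h, mul_one] at h1
      exact V.x2.ne (mul_eq_right.1 h1)
    · exact h
  rcases hcls d hdE hdf with e | e | e | e
  · rw [e, one_mul] at hdd; exact absurd hdd.symm V.x2.ne
  · rw [e, V.x2.zz] at hdd; exact absurd hdd.symm V.x2.ne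
  · rw [← e]; exact hdd
  · rw [e] at hdd
    rwa [show z * v * (z * v) = z * (v * z) * v by group, (V.comm_z hv).eq, ← mul_assoc z z, V.x2.zz,
      one_mul] at hdd

open Classical in
/-- A linear form on the centralizer of a conjugate vanishing on involutions vanishes. -/
theorem stab_kills (V : Env E z) {c : G} (hcz : Commute c z) (h2 : (orb E c).card = 2) (h32 : 32 ≤ Nat.card E)
    (hbig : 128 ≤ Nat.card E ∨ ∃ v ∈ E, Commute v c ∧ v * v = z ∧ ∀ f ∈ E, Commute f c → Commute v f)
    (ψ : G → ZMod 2) (hadd : ∀ a ∈ fc E c, ∀ b ∈ fc E c, ψ (a * b) = ψ a + ψ b)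
    (hinv : ∀ a ∈ fc E c, a * a = 1 → ψ a = 0) : ∀ f ∈ fc E c, ψ f = 0 := by
  have hmul : ∀ a ∈ fc E c, ∀ b ∈ fc E c, a * b ∈ fc E c := fun a ha b hb =>
    mem_fc.2 ⟨E.mul_mem (mem_fc.1 ha).1 (mem_fc.1 hb).1, (mem_fc.1 ha).2.mul_left (mem_fc.1 hb).2⟩
  have hstep : ∀ f ∈ fc E c, ∀ a ∈ fc E c, f * f = z → a * a = 1 → ¬ Commute a f → ψ f = 0 := by
    intro f hf a ha hff haa hn
    have h1 : ψ (a * f) = 0 := by
      refine hinv _ (hmul a ha f hf) ?_
      rw [(V.sq_mul (mem_fc.1 ha).1 (mem_fc.1 hf).1).2 hn, haa, hff, one_mul, V.x2.zz]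
    rw [hadd a ha f hf, hinv a ha haa, zero_add] at h1
    exact h1
  obtain ⟨e₀, he₀, v₁, hv₁, he₀c, hv₁c, hv₁f, -, hgen, hcls⟩ := V.half hcz h2
  have hfc : (fc E c).card * 2 = Nat.card E := by rw [← card_orb_fc E c, h2, mul_comm]
  have main : ∀ f ∈ fc E c, ∀ b ∈ fc E c, f * f = z → ¬ Commute b f → ψ f = 0 := by
    intro f hf b hb hff hn
    rcases V.x2.sq b (mem_fc.1 hb).1 with hbb | hbb
    · exact hstep f hf b hb hff hbb hn
    suffices ∃ t ∈ fc E c, Commute t b ∧ Commute t f ∧ t * t = z by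
      obtain ⟨t, ht, htb, htf, htt⟩ := this
      refine hstep f hf (b * t) (hmul b hb t ht) hff ?_ fun h => hn ?_
      · rw [(V.sq_mul (mem_fc.1 hb).1 (mem_fc.1 ht).1).1 htb.symm, hbb, htt, V.x2.zz]
      · simpa using h.mul_left htf.inv_left
    rcases hbig with h128 | ⟨v, hv, hvc, hvv, hvf⟩
    swap
    · exact ⟨v, mem_fc.2 ⟨hv, hvc⟩, hvf b (mem_fc.1 hb).1 (mem_fc.1 hb).2,
        hvf f (mem_fc.1 hf).1 (mem_fc.1 hf).2, hvv⟩
    by_contra! hno
    set C := (fc E c).filter fun t => Commute t b ∧ Commute t f with hC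
    have hCsq : ∀ t ∈ C, t * t = 1 := fun t ht => by
      rw [hC, Finset.mem_filter] at ht
      exact (V.x2.sq t (mem_fc.1 ht.1).1).resolve_right (hno t ht.1 ht.2.1 ht.2.2)
    have hCmem : ∀ t, t ∈ C ↔ t ∈ fc E c ∧ Commute t b ∧ Commute t f := fun t => Finset.mem_filter
    have hCcomm : ∀ s ∈ C, ∀ t ∈ C, Commute s t := by
      intro s hs t ht
      by_contra hst
      obtain ⟨hs1, hs2, hs3⟩ := (hCmem s).1 hs
      obtain ⟨ht1, ht2, ht3⟩ := (hCmem t).1 ht
      have := hCsq (s * t) ((hCmem _).2 ⟨hmul s hs1 t ht1, hs2.mul_left ht2, hs3.mul_left ht3⟩)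
      rw [(V.sq_mul (mem_fc.1 hs1).1 (mem_fc.1 ht1).1).2 hst, hCsq s hs, hCsq t ht, mul_one, mul_one] at this
      exact V.x2.ne this
    have hbE := (mem_fc.1 hb).1
    have hfE := (mem_fc.1 hf).1
    have hred : ∀ g ∈ fc E c, ∃ k, (k = 1 ∨ k = b ∨ k = f ∨ k = b * f) ∧ g * k ∈ C := by
      intro g hg
      have hgE := (mem_fc.1 hg).1
      have hn' : ¬ Commute f b := fun h => hn h.symm
      by_cases g1 : Commute g b <;> by_cases g2 : Commute g f
      · exact ⟨1, by simp, (hCmem _).2 ⟨by simpa using hg, by simpa using g1, by simpa using g2⟩⟩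
      · exact ⟨b, by simp, (hCmem _).2 ⟨hmul g hg b hb, g1.mul_left (Commute.refl b),
          V.x2.commute_mul hgE hbE hfE g2 hn⟩⟩
      · exact ⟨f, by simp, (hCmem _).2 ⟨hmul g hg f hf, V.x2.commute_mul hgE hfE hbE g1 hn',
          g2.mul_left (Commute.refl f)⟩⟩
      · refine ⟨b * f, by simp, (hCmem _).2 ⟨hmul g hg _ (hmul b hb f hf), ?_, ?_⟩⟩
        · exact V.x2.commute_mul hgE (E.mul_mem hbE hfE) hbE g1
            (fun h => hn' (by simpa using (Commute.refl b).inv_left.mul_left h))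
        · exact V.x2.commute_mul hgE (E.mul_mem hbE hfE) hfE g2
            (fun h => hn (by simpa using h.mul_left (Commute.refl f).inv_left))
    have hCcent : ∀ t ∈ C, ∀ g ∈ E, Commute g c → Commute t g := by
      intro t ht g hg hgc
      obtain ⟨k, hk, hgk⟩ := hred g (mem_fc.2 ⟨hg, hgc⟩)
      obtain ⟨-, t2, t3⟩ := (hCmem t).1 ht
      have hk' : Commute t k := by
        rcases hk with rfl | rfl | rfl | rfl
        · exact Commute.one_right t
        · exact t2
        · exact t3
        · exact t2.mul_right t3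
      have := (hCcomm t ht _ hgk).mul_right hk'.inv_right
      rwa [mul_inv_cancel_right] at this
    have h4 : C.card ≤ 4 := by
      refine (Finset.card_le_card (t := ({1, z, v₁, z * v₁} : Finset G)) fun t ht => ?_).trans Finset.card_le_four
      simpa using hcls t (mem_fc.1 ((hCmem t).1 ht).1).1 (hCcent t ht)
    have h16 : (fc E c).card ≤ 4 * C.card := by
      refine (Finset.card_le_card (t := ({1, b, f, b * f} : Finset G).biUnion fun k => C.image fun t => t * k⁻¹)
        fun g hg => ?_).trans (Finset.card_biUnion_le_card_mul _ _ _ fun k _ => Finset.card_image_le) |>.trans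
        (Nat.mul_le_mul_right _ Finset.card_le_four)
      obtain ⟨k, hk, hgk⟩ := hred g hg
      exact Finset.mem_biUnion.2 ⟨k, by simpa using hk, Finset.mem_image.2 ⟨g * k, hgk, by group⟩⟩
    omega
  intro f hf
  rcases V.x2.sq f (mem_fc.1 hf).1 with hff | hff
  · exact hinv f hf hff
  by_cases hcent : ∀ b ∈ fc E c, Commute b f
  swap
  · push Not at hcent
    obtain ⟨b, hb, hn⟩ := hcent
    exact main f hf b hb hff hn
  obtain ⟨a, ha, b, hb, hn⟩ : ∃ a ∈ fc E c, ∃ b ∈ fc E c, ¬ Commute b a := by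
    obtain ⟨a, ha, b, hb, hac, hbc, hn⟩ := V.noncomm_stab (c := c) (by rw [h2]; omega)
    exact ⟨b, mem_fc.2 ⟨hb, hbc⟩, a, mem_fc.2 ⟨ha, hac⟩, hn⟩
  have hfa : ¬ Commute b (f * a) := fun h => hn (by simpa using (hcent b hb).inv_right.mul_right h)
  have hsq : f * a * (f * a) = z * (a * a) := by
    rw [(V.sq_mul (mem_fc.1 hf).1 (mem_fc.1 ha).1).1 (hcent a ha).symm, hff]
  have key : ψ (f * a) = 0 ∧ ψ a = 0 := by
    rcases V.x2.sq a (mem_fc.1 ha).1 with haa | haa
    · exact ⟨main _ (hmul f hf a ha) b hb (by rw [hsq, haa, mul_one]) hfa, hinv a ha haa⟩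
    · exact ⟨hinv _ (hmul f hf a ha) (by rw [hsq, haa, V.x2.zz]), main a ha b hb haa hn⟩
  have := key.1
  rw [hadd f hf a ha, key.2, add_zero] at this
  exact this

end Cfsg.Lib.LargeTransfer
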