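import Cfsg.Agent.InvolCalc.LargeTransfer.Kills

/-!
From the hypotheses of the statements to the setting.
-/

set_option autoImplicit false
set_option linter.unusedSectionVars false
set_option linter.style.haveILetI false

namespace Cfsg.Lib.LargeTransfer

open Subgroup Cfsg.Lib.LargeExtra

variable {G : Type*} [Group G] [Finite G]

theorem frame {z : G} (hz : orderOf z = 2) {E : Subgroup G}
    (hE : E = (Cfsg.pCore 2 ↥(centralizer ({z} : Set G))).map (centralizer ({z} : Set G)).subtype)
    (hext : Cfsg.IsExtraspecial 2 ↥E) (hcent : centralizer (E : Set G) ≤ E) :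
    Env E z ∧ ∀ N : Subgroup G, N ≤ centralizer ({z} : Set G) → IsPGroup 2 N →
      centralizer ({z} : Set G) ≤ normalizer (N : Set G) → N ≤ E := by
  subst hE
  have hcore : (Cfsg.pCore 2 ↥(centralizer ({z} : Set G))).map (centralizer ({z} : Set G)).subtype =
      core (centralizer ({z} : Set G)) := rfl
  obtain ⟨y, hy, -⟩ := exists_x2 hext
  have hzE := hcent (mem_centralizer_iff.2 fun e he =>
    (mem_centralizer_singleton_iff.1 (map_subtype_le _ he)))
  have hzy : z = y := by
    refine (hy.cen z hzE fun e he => mem_centralizer_singleton_iff.1 (map_subtype_le _ he)).resolve_left ?_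
    intro h
    simp [h] at hz
  exact ⟨⟨hzy ▸ hy, hcent, core_normalized _⟩, fun N hN hP hC => le_core hN hP hC⟩

open Classical in
/-- The character of a subgroup of index two. -/
noncomputable def chiOf (K : Subgroup G) (g : G) : ZMod 2 := if g ∈ K then 0 else 1

theorem lin_of {z : G} (hres : Cfsg.pResidual 2 G = ⊤) {K : Subgroup G}
    (hKi : K.relIndex (centralizer ({z} : Set G)) = 2) : Lin z (chiOf K) := by
  refine ⟨fun a b ha hb => ?_, res_of_top hres⟩
  classical
  set H := centralizer ({z} : Set G) with hH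
  have ha' : a ∈ H := mem_centralizer_singleton_iff.2 ha.eq
  have hb' : b ∈ H := mem_centralizer_singleton_iff.2 hb.eq
  have hiff : a * b ∈ K ↔ (a ∈ K ↔ b ∈ K) := by
    have := Subgroup.mul_mem_iff_of_index_two (H := K.subgroupOf H) hKi (a := ⟨a, ha'⟩) (b := ⟨b, hb'⟩)
    simpa [mem_subgroupOf] using this
  unfold chiOf
  by_cases h1 : a ∈ K <;> by_cases h2 : b ∈ K <;> simp [hiff, h1, h2]
  decide

theorem chiOf_eq_zero {K : Subgroup G} {g : G} : chiOf K g = 0 ↔ g ∈ K := by
  unfold chiOf
  by_cases h : g ∈ K <;> simp [h]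

theorem exists_outside {z : G} {K : Subgroup G} (hKi : K.relIndex (centralizer ({z} : Set G)) = 2) :
    ∃ h, Commute h z ∧ chiOf K h = 1 := by
  by_contra! hno
  have : centralizer ({z} : Set G) ≤ K := fun h hh => by
    by_contra hk
    exact hno h (mem_centralizer_singleton_iff.1 hh) (by simp [chiOf, hk])
  rw [relIndex_eq_one.2 this] at hKi
  omega

end Cfsg.Lib.LargeTransfer
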