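import Cfsg.Agent.InvolCalc.LargeTransfer.Extra
import Cfsg.Agent.LargeExtra.Setting

/-!
The global sum, and: the character kills the extraspecial subgroup.
-/

set_option autoImplicit false
set_option linter.unusedSectionVars false
set_option linter.style.haveILetI false

namespace Cfsg.Lib.LargeTransfer

open Subgroup

variable {G : Type*} [Group G] [Fintype G] [DecidableEq G]
variable {E : Subgroup G} {z : G} {χ : G → ZMod 2}

theorem orb_base (V : Env E z) : orb E z = {z} := by
  ext q
  rw [mem_orb, Finset.mem_singleton]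
  constructor
  · rintro ⟨e, he, rfl⟩
    exact conj_fix (V.comm_z he)
  · rintro rfl
    exact ⟨1, E.one_mem, by group⟩

/-- The contributions of the orbits add up. -/
theorem total (V : Env E z) (L : Lin z χ) {x : G} (hxz : Commute x z)
    (hlow : ∀ (g : G) (k : ℕ), 2 ≤ k → k ∣ orderOf x → Commute (g⁻¹ * x ^ k * g) z →
      χ (g⁻¹ * x ^ k * g) = 0)
    (horb : ∀ c, Orb E z χ x c → ∑ q ∈ pts E x c, tw χ z q x = 0) : χ x = 0 := by
  classical
  set s := (cls z).filter (Commute x) with hs'
  have hs : ∀ c, c ∈ s ↔ IsConj z c ∧ Commute x c := fun c => by rw [hs', Finset.mem_filter, mem_cls]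
  have h0 := L.fixed_sum hlow s hs
  rw [← Finset.sum_filter_add_sum_filter_not s (fun c => Commute c z)] at h0
  have hout : ∑ c ∈ s.filter (fun c => ¬ Commute c z), tw χ z c x = 0 := by
    have hzz : z⁻¹ = z := V.x2.inv_z
    refine Finset.sum_involution (fun c _ => z * c * z⁻¹) (fun c hc => ?_) (fun c hc _ h => ?_)
      (fun c hc => ?_) (fun c hc => ?_)
    · rw [Finset.mem_filter, hs] at hc
      have h1 := L.tw_conj z hc.1.1 hc.1.2
      rw [conj_fix hxz.symm] at h1
      rw [h1, z2_add_self]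
    · rw [Finset.mem_filter] at hc
      exact hc.2 (conj_fix_iff.1 h).symm
    · rw [Finset.mem_filter, hs] at hc ⊢
      refine ⟨⟨isConj_conj hc.1.1 z, ?_⟩, fun h => hc.2 ?_⟩
      · have := hc.1.2.map (MulAut.conj z).toMonoidHom
        simpa [conj_fix hxz.symm] using this
      · have := h.map (MulAut.conj z⁻¹).toMonoidHom
        simpa [mul_assoc] using this
    · rw [show z * (z * c * z⁻¹) * z⁻¹ = z * z * c * (z * z)⁻¹ by group, V.x2.zz]
      group
  rw [hout, add_zero] at h0
  set s₁ := s.filter (fun c => Commute c z) with hs₁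
  have hzs : z ∈ s₁ := Finset.mem_filter.2 ⟨(hs z).2 ⟨IsConj.refl z, hxz⟩, Commute.refl z⟩
  rw [← Finset.sum_fiberwise_of_maps_to (t := s₁.image (orb E)) (g := orb E)
    (fun c hc => Finset.mem_image_of_mem _ hc)] at h0
  have hfib : ∀ c ∈ s₁, (s₁.filter fun q => orb E q = orb E c) = pts E x c := by
    intro c hc
    obtain ⟨hc1, hc2⟩ := Finset.mem_filter.1 hc
    ext q
    rw [Finset.mem_filter, mem_pts]
    constructor
    · rintro ⟨hq, he⟩
      exact ⟨he ▸ self_mem_orb E q, ((hs q).1 (Finset.mem_filter.1 hq).1).2⟩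
    · rintro ⟨hq, hxq⟩
      refine ⟨?_, orb_eq hq⟩
      obtain ⟨e, he, rfl⟩ := mem_orb.1 hq
      refine Finset.mem_filter.2 ⟨(hs _).2 ⟨isConj_conj ((hs c).1 hc1).1 e, hxq⟩, ?_⟩
      exact ((V.comm_z he).mul_left hc2).mul_left (V.comm_z he).inv_left
  rw [Finset.sum_eq_single_of_mem (orb E z) (Finset.mem_image_of_mem _ hzs)] at h0
  · rw [hfib z hzs] at h0
    have : pts E x z = {z} := by
      ext q
      rw [mem_pts, orb_base V, Finset.mem_singleton]
      exact ⟨And.left, fun h => ⟨h, h ▸ hxz⟩⟩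
    rw [this, Finset.sum_singleton, L.tw_base hxz] at h0
    exact h0
  · intro o ho hne
    obtain ⟨c, hc, rfl⟩ := Finset.mem_image.1 ho
    rw [hfib c hc]
    obtain ⟨hc1, hc2⟩ := Finset.mem_filter.1 hc
    refine horb c ⟨V, L, hxz, ((hs c).1 hc1).1, hc2, fun h => hne (by rw [h]), ((hs c).1 hc1).2⟩

theorem conj_eq_mem (g : G) {w : G} : w ∈ E.map (MulAut.conj g).toMonoidHom ↔ g⁻¹ * w * g ∈ E :=
  Cfsg.Lib.LargeExtra.mem_map_conj

/-- An involution of `E` conjugate to `z` is a commutator of elements centralizing `z`. -/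
theorem Env.conj_kill (V : Env E z) (L : Lin z χ) (h8 : 8 < Nat.card E) {g : G}
    (hx : g * z * g⁻¹ ∈ E) (hne : g * z * g⁻¹ ≠ z) : χ (g * z * g⁻¹) = 0 := by
  have hd : g⁻¹ * z * g ∈ E := Cfsg.Lib.LargeExtra.mem_conj_of_mem V.x2 V.cen V.norm h8 hx hne
  obtain ⟨a, ha, b, hb, had, hbd, hn⟩ := V.x2.exists_noncommuting h8 hd
  have key : ∀ u, Commute u (g⁻¹ * z * g) → Commute (g * u * g⁻¹) z := by
    intro u hu
    have := hu.map (MulAut.conj g).toMonoidHom
    simpa [mul_assoc] using this
  have h1 : g * z * g⁻¹ = (g * a * g⁻¹) * (g * b * g⁻¹) * (g * a * g⁻¹)⁻¹ * (g * b * g⁻¹)⁻¹ := by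
    have h2 : a * b * a⁻¹ = z * b := V.x2.not_commute_conj ha hb hn
    calc g * z * g⁻¹ = g * (z * b * b⁻¹) * g⁻¹ := by group
      _ = g * (a * b * a⁻¹ * b⁻¹) * g⁻¹ := by rw [h2]
      _ = _ := by group
  have hA := key a had
  have hB := key b hbd
  rw [h1, L.add _ _ ((hA.mul_left hB).mul_left hA.inv_left) hB.inv_left, L.conj hA hB, L.inv hB, z2_add_self]

theorem Env.chi_z (V : Env E z) (L : Lin z χ) (h8 : 8 < Nat.card E) : χ z = 0 := by
  obtain ⟨a, ha, b, hb, -, -, hn⟩ := V.x2.exists_noncommuting h8 V.x2.mem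
  have h2 : a * b * a⁻¹ = z * b := V.x2.not_commute_conj ha hb hn
  have h3 := L.conj (V.comm_z ha) (V.comm_z hb)
  rw [h2, L.add _ _ (Commute.refl z) (V.comm_z hb)] at h3
  exact add_eq_right.1 h3

/-- The character vanishes on `E`. -/
theorem Env.kills (V : Env E z) (L : Lin z χ) (h32 : 32 ≤ Nat.card E) : ∀ e ∈ E, χ e = 0 := by
  classical
  have hz0 := V.chi_z L (by omega)
  by_contra! hne
  obtain ⟨e₀, he₀, hχ₀⟩ := hne
  have h01 : ∀ a : ZMod 2, a ≠ 0 → a = 1 := by decide
  have h01' : ∀ a : ZMod 2, a ≠ 1 → a = 0 := by decide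
  replace hχ₀ : χ e₀ = 1 := h01 _ hχ₀
  obtain ⟨x, hx, hxx, hχ⟩ : ∃ x ∈ E, x * x = 1 ∧ χ x = 1 := by
    by_contra! hno
    have hee : e₀ * e₀ = z := (V.x2.sq e₀ he₀).resolve_left fun h => hno e₀ he₀ h hχ₀
    have hker : ∀ t ∈ E, χ t = 0 → (t * t = 1 ↔ Commute e₀ t) := by
      intro t ht hχt
      have h1 : e₀ * t * (e₀ * t) ≠ 1 := fun h => hno _ (E.mul_mem he₀ ht) h
        (by rw [L.add _ _ (V.comm_z he₀) (V.comm_z ht), hχ₀, hχt, add_zero])
      constructor
      · intro h
        by_contra hc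
        rw [(V.sq_mul he₀ ht).2 hc, hee, h, mul_one, V.x2.zz] at h1
        exact h1 rfl
      · intro h
        rcases V.x2.sq t ht with h' | h'
        · exact h'
        · rw [(V.sq_mul he₀ ht).1 h, hee, h', V.x2.zz] at h1
          exact absurd rfl h1
    set K := (Finset.univ.filter (· ∈ E)).filter fun t => χ t = 0 with hK
    have hKmem : ∀ t, t ∈ K ↔ t ∈ E ∧ χ t = 0 := fun t => by simp [hK]
    have hab : ∀ s ∈ K, ∀ t ∈ K, Commute s t := by
      intro s hs t ht
      obtain ⟨hs1, hs2⟩ := (hKmem s).1 hs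
      obtain ⟨ht1, ht2⟩ := (hKmem t).1 ht
      by_contra hn
      have hst : χ (s * t) = 0 := by rw [L.add _ _ (V.comm_z hs1) (V.comm_z ht1), hs2, ht2, add_zero]
      have e := hker _ (E.mul_mem hs1 ht1) hst
      rw [(V.sq_mul hs1 ht1).2 hn] at e
      have es := hker s hs1 hs2
      have et := hker t ht1 ht2
      by_cases c1 : Commute e₀ s <;> by_cases c2 : Commute e₀ t
      · rw [es.2 c1, et.2 c2, mul_one, mul_one] at e
        exact V.x2.ne (e.2 (c1.mul_right c2))
      · rw [es.2 c1, (V.x2.sq t ht1).resolve_left (fun h => c2 (et.1 h)), one_mul, V.x2.zz] at e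
        have := c1.inv_right.mul_right (e.1 rfl)
        rw [inv_mul_cancel_left] at this
        exact c2 this
      · rw [(V.x2.sq s hs1).resolve_left (fun h => c1 (es.1 h)), et.2 c2, mul_one, V.x2.zz] at e
        have := (e.1 rfl).mul_right c2.inv_right
        rw [mul_inv_cancel_right] at this
        exact c1 this
      · have h := (V.commute_mul hs1 ht1 he₀ (iff_of_false (fun h => c1 h.symm) (fun h => c2 h.symm))).symm
        have h' := e.2 h
        rw [(V.x2.sq s hs1).resolve_left (fun h => c1 (es.1 h)),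
          (V.x2.sq t ht1).resolve_left (fun h => c2 (et.1 h)), V.x2.zz, mul_one] at h'
        exact V.x2.ne h'
    have hgen : ∀ w ∈ E, (∀ a ∈ K, Commute w a) → (∀ t ∈ ({e₀} : Finset G), Commute w t) → w = 1 ∨ w = z := by
      intro w _ hwK hwe
      refine V.cent_all fun e he => ?_
      by_cases hce : χ e = 0
      · exact (hwK e ((hKmem e).2 ⟨he, hce⟩)).symm
      · have h1 : e₀⁻¹ * e ∈ K := (hKmem _).2 ⟨E.mul_mem (E.inv_mem he₀) he, by
          rw [L.add _ _ (V.comm_z he₀).inv_left (V.comm_z he), L.inv (V.comm_z he₀), hχ₀, h01 _ hce,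
            z2_add_self]⟩
        have := (hwe e₀ (by simp)).mul_right (hwK _ h1)
        rw [mul_inv_cancel_left] at this
        exact this.symm
    have h4 := V.card_le K {e₀} (fun a ha => ((hKmem a).1 ha).1) (by simpa using he₀) hab hgen
    have hE : Nat.card E ≤ K.card + K.card := by
      have : Nat.card E = (Finset.univ.filter (· ∈ E)).card := by
        rw [Nat.card_eq_fintype_card, Fintype.card_subtype]
      rw [this, ← Finset.card_filter_add_card_filter_not (s := Finset.univ.filter (· ∈ E))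
        (fun t => χ t = 0)]
      refine Nat.add_le_add le_rfl (Finset.card_le_card_of_injOn (fun t => e₀⁻¹ * t) ?_ ?_)
      · intro t ht
        simp only [Finset.coe_filter, Finset.mem_filter, Finset.mem_univ, true_and, Set.mem_setOf_eq] at ht
        refine Finset.mem_coe.2 ((hKmem _).2 ⟨E.mul_mem (E.inv_mem he₀) ht.1, ?_⟩)
        rw [L.add _ _ (V.comm_z he₀).inv_left (V.comm_z ht.1), L.inv (V.comm_z he₀), hχ₀, h01 _ ht.2,
          z2_add_self]
      · intro a _ b _ h
        exact mul_left_cancel h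
    simp at h4
    omega
  have hxz : x ≠ z := fun h => by rw [h, hz0] at hχ; exact zero_ne_one hχ
  have hx1 : x ≠ 1 := fun h => by rw [h, L.one] at hχ; exact zero_ne_one hχ
  have hxcz : Commute x z := V.comm_z hx
  set D := E ⊓ centralizer ({x} : Set G) with hD
  have hDmem : ∀ d, d ∈ D ↔ d ∈ E ∧ Commute d x := fun d => by
    rw [hD, mem_inf, mem_centralizer_singleton_iff]; rfl
  have hlow : ∀ (g : G) (k : ℕ), 2 ≤ k → k ∣ orderOf x → Commute (g⁻¹ * x ^ k * g) z →
      χ (g⁻¹ * x ^ k * g) = 0 := by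
    intro g k h2 hk _
    have : orderOf x ∣ 2 := orderOf_dvd_of_pow_eq_one (by rw [pow_two, hxx])
    have hk2 : k = 2 := le_antisymm (Nat.le_of_dvd two_pos (hk.trans this)) h2
    rw [hk2, pow_two, hxx, mul_one, inv_mul_cancel, L.one]
  set s := (cls z).filter (Commute x) with hs'
  have hs : ∀ c, c ∈ s ↔ IsConj z c ∧ Commute x c := fun c => by rw [hs', Finset.mem_filter, mem_cls]
  have h0 := L.fixed_sum hlow s hs
  have hconj : IsConj z x := by
    by_contra hno
    rw [← Finset.sum_fiberwise_of_maps_to (t := s.image (orb D)) (g := orb D)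
      (fun c hc => Finset.mem_image_of_mem _ hc)] at h0
    have hzs : z ∈ s := (hs z).2 ⟨IsConj.refl z, hxcz⟩
    have hfib : ∀ c ∈ s, (s.filter fun q => orb D q = orb D c) = orb D c := by
      intro c hc
      ext q
      rw [Finset.mem_filter]
      constructor
      · rintro ⟨-, he⟩
        exact he ▸ self_mem_orb D q
      · intro hq
        refine ⟨?_, orb_eq hq⟩
        obtain ⟨d, hd, rfl⟩ := mem_orb.1 hq
        obtain ⟨hc1, hc2⟩ := (hs c).1 hc
        refine (hs _).2 ⟨isConj_conj hc1 d, ?_⟩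
        exact ((((hDmem d).1 hd).2.symm).mul_right hc2).mul_right ((hDmem d).1 hd).2.symm.inv_right
    have hbase : orb D z = {z} := by
      ext q
      rw [mem_orb, Finset.mem_singleton]
      exact ⟨fun ⟨d, hd, e⟩ => e ▸ conj_fix (V.comm_z ((hDmem d).1 hd).1), fun e => ⟨1, D.one_mem, by rw [e]; group⟩⟩
    rw [Finset.sum_eq_single_of_mem (orb D z) (Finset.mem_image_of_mem _ hzs)] at h0
    · rw [hfib z hzs, hbase, Finset.sum_singleton, L.tw_base hxcz, hχ] at h0
      exact one_ne_zero h0
    intro o ho hne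
    obtain ⟨c, hc, rfl⟩ := Finset.mem_image.1 ho
    rw [hfib c hc]
    obtain ⟨hc1, hc2⟩ := (hs c).1 hc
    have hconst : ∀ q ∈ orb D c, tw χ z q x = tw χ z c x := by
      intro q hq
      obtain ⟨d, hd, rfl⟩ := mem_orb.1 hq
      have h1 := L.tw_conj d hc1 hc2
      rwa [conj_fix ((hDmem d).1 hd).2] at h1
    rw [Finset.sum_congr rfl hconst, Finset.sum_const]
    obtain ⟨i, hi⟩ : ∃ i, (orb D c).card = 2 ^ i := by
      obtain ⟨k, hk⟩ := (V.x2.isP.to_le (show D ≤ E from inf_le_left)).exists_card_eq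
      obtain ⟨i, -, hi⟩ := (Nat.dvd_prime_pow Nat.prime_two).1 (hk ▸ Dvd.intro _ (card_orb_fc D c))
      exact ⟨i, hi⟩
    rcases i with - | i
    swap
    · rw [hi, pow_succ, mul_smul, two_smul, z2_add_self, smul_zero]
    exfalso
    have hall : ∀ d ∈ D, Commute d c := by
      intro d hd
      have h1 : d * c * d⁻¹ ∈ orb D c := mem_orb.2 ⟨d, hd, rfl⟩
      obtain ⟨a, ha⟩ := Finset.card_eq_one.1 (hi.trans (pow_zero 2))
      rw [ha, Finset.mem_singleton] at h1
      have h2 := self_mem_orb D c
      rw [ha, Finset.mem_singleton] at h2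
      exact conj_fix_iff.1 (h1.trans h2.symm)
    have hcz : Commute c z := (hall z ((hDmem z).2 ⟨V.x2.mem, hxcz.symm⟩)).symm
    have hcl : ∀ w ∈ E, (∀ d ∈ D, Commute d w) → w = 1 ∨ w = z ∨ w = x ∨ w = z * x := by
      intro w hw hwd
      have h3 := V.x2.mem_closure_of_commute (S := {x}) (Set.singleton_subset_iff.2 hx) hw
        fun q hq hqx => hwd q ((hDmem q).2 ⟨hq, hqx x rfl⟩)
      have hxi : x⁻¹ = x := inv_eq_of_mul_eq_one_right hxx
      have hclo : ∀ u, u ∈ closure (insert z ({x} : Set G)) → u = 1 ∨ u = z ∨ u = x ∨ u = z * x := by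
        intro u hu
        induction hu using closure_induction with
        | mem u hu => rcases hu with rfl | rfl <;> simp
        | one => simp
        | inv u _ ih => rcases ih with rfl | rfl | rfl | rfl <;> simp [V.x2.inv_z, hxi, hxcz.eq]
        | mul u v _ _ iu iv =>
          have e1 : z * (z * x) = x := by rw [← mul_assoc, V.x2.zz, one_mul]
          have e2 : x * (z * x) = z := by rw [← mul_assoc, hxcz.eq, mul_assoc, hxx, mul_one]
          have e3 : z * x * (z * x) = 1 := by rw [mul_assoc, e2, V.x2.zz]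
          have e4 : z * x * x = z := by rw [mul_assoc, hxx, mul_one]
          have e5 : z * x * z = x := by rw [mul_assoc, hxcz.eq, e1]
          rcases iu with rfl | rfl | rfl | rfl <;> rcases iv with rfl | rfl | rfl | rfl <;>
            simp [V.x2.zz, hxx, hxcz.eq, e1, e2, e3, e4, e5]
      exact hclo w h3
    have hc1z : c ≠ z := fun h => hne (by rw [h])
    have hc11 : c ≠ 1 := fun h => by
      obtain ⟨g, hg⟩ := isConj_iff.1 hc1
      exact V.x2.ne (conj_eq_one_iff.1 (hg.trans h))
    obtain ⟨q, hq, hqx⟩ := V.x2.exists_swap hx (by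
      rw [Cfsg.Lib.LargeExtra.mem_zpowers_two V.x2.zz]
      exact fun h => h.elim hx1 hxz)
    have hqn : ¬ Commute q x := fun h => V.x2.ne (mul_eq_right.1 ((conj_fix h).symm.trans hqx).symm)
    have hgen : ∀ e ∈ E, e ∈ D ∨ q⁻¹ * e ∈ D := by
      intro e he
      by_cases h : Commute e x
      · exact Or.inl ((hDmem e).2 ⟨he, h⟩)
      · exact Or.inr ((hDmem _).2 ⟨E.mul_mem (E.inv_mem hq) he,
          V.x2.commute_mul (E.inv_mem hq) he hx (fun h' => hqn (Commute.inv_left_iff.1 h')) h⟩)
    set d := q⁻¹ * (c * q * c⁻¹) with hd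
    have hdE : d ∈ E := E.mul_mem (E.inv_mem hq) (V.conjE hcz hq)
    have hdD : ∀ f ∈ D, Commute f d := by
      intro f hf
      have hce : c * q * c⁻¹ ∈ E := V.conjE hcz hq
      refine (V.commute_mul (E.inv_mem hq) hce ((hDmem f).1 hf).1 ?_).symm
      rw [Commute.inv_left_iff]
      constructor
      · intro h
        have := h.map (MulAut.conj c).toMonoidHom
        simpa [conj_fix (hall f hf).symm] using this
      · intro h
        have := h.map (MulAut.conj c⁻¹).toMonoidHom
        have e1 : MulAut.conj c⁻¹ f = f := by rw [MulAut.conj_apply]; exact conj_fix (hall f hf).symm.inv_left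
        simpa [e1, mul_assoc, (hall f hf).eq] using this
    have hce : c * q * c⁻¹ = q * d := by rw [hd, mul_inv_cancel_left]
    have hcent : ∀ w, (∀ f ∈ D, Commute f w) → Commute q w → w ∈ E → w = 1 ∨ w = z := by
      intro w hwD hwq _
      refine V.cent_all fun e he => ?_
      rcases hgen e he with h | h
      · exact hwD e h
      · have := hwq.mul_left (hwD _ h)
        rwa [mul_inv_cancel_left] at this
    have inE : ∀ w, (∀ f ∈ D, Commute f w) → Commute q w → w ∈ E := by
      intro w hwD hwq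
      refine V.cen (mem_centralizer_iff.2 fun e he => ?_)
      rcases hgen e he with h | h
      · exact (hwD e h).eq
      · have := hwq.mul_left (hwD _ h)
        rw [mul_inv_cancel_left] at this
        exact this.eq
    have hqd : Commute q d → False := by
      intro h
      rcases hcent d hdD h hdE with e | e
      · have h1 : Commute q c := by
          rw [e, mul_one] at hce
          exact (mul_inv_eq_iff_eq_mul.1 hce).symm
        exact (hcent c hall h1 (inE c hall h1)).elim hc11 hc1z
      · have h1 : Commute q (c * x) := by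
          refine (conj_fix_iff.1 ?_).symm
          have hx' : x * q * x⁻¹ = z * q := V.x2.not_commute_conj hx hq (fun h => hqn h.symm)
          rw [show c * x * q * (c * x)⁻¹ = c * (x * q * x⁻¹) * c⁻¹ by group, hx',
            show c * (z * q) * c⁻¹ = (c * z * c⁻¹) * (c * q * c⁻¹) by group, conj_fix hcz, hce, e,
            (V.comm_z hq).eq, ← mul_assoc, V.x2.zz, one_mul]
        have h2 : ∀ f ∈ D, Commute f (c * x) := fun f hf => (hall f hf).mul_right ((hDmem f).1 hf).2
        rcases hcent (c * x) h2 h1 (inE _ h2 h1) with e' | e'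
        · exact hno ((eq_inv_of_mul_eq_one_left e').trans (inv_eq_of_mul_eq_one_right hxx) ▸ hc1)
        · have hcx : c = z * x := by
            rw [← inv_eq_of_mul_eq_one_right hxx]
            exact eq_mul_inv_of_mul_eq e'
          refine hno (hc1.trans (isConj_iff.2 ⟨q, ?_⟩))
          rw [hcx, show q * (z * x) * q⁻¹ = q * z * q⁻¹ * (q * x * q⁻¹) by group, hqx, conj_fix (V.comm_z hq),
            ← mul_assoc, V.x2.zz, one_mul]
    rcases hcl d hdE hdD with e | e | e | e
    · exact hqd (e ▸ Commute.one_right q)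
    · exact hqd (e ▸ V.comm_z hq)
    all_goals
      have hn : ¬ Commute q d := fun h => hqd h
      have hdd : d * d = 1 := by
        rw [e]
        first
          | exact hxx
          | rw [show z * x * (z * x) = z * (x * z) * x by group, hxcz.eq, ← mul_assoc z z, V.x2.zz, one_mul, hxx]
      have hee : Commute c (q * q) := by
        rcases V.x2.sq q hq with h | h <;> rw [h]
        · exact Commute.one_right c
        · exact hcz
      have h1 : q * d * (q * d) = q * q := by
        rw [← hce, show c * q * c⁻¹ * (c * q * c⁻¹) = c * (q * q) * c⁻¹ by group, conj_fix hee]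
      rw [(V.sq_mul hq hdE).2 hn, hdd, mul_one] at h1
      exact V.x2.ne (mul_eq_right.1 h1)
  obtain ⟨g, hg⟩ := isConj_iff.1 hconj
  have := V.conj_kill L (by omega) (g := g) (by rw [hg]; exact hx) (by rw [hg]; exact hxz)
  rw [hg, hχ] at this
  exact one_ne_zero this

end Cfsg.Lib.LargeTransfer
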