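import Cfsg.Agent.InvolCalc.LargeTransfer.Invol

/-!
The extraspecial group of order 32 of minus type.
-/

set_option autoImplicit false
set_option linter.unusedSectionVars false
set_option linter.style.haveILetI false
set_option synthInstance.maxSize 2000

namespace Cfsg.Lib.LargeTransfer

open Subgroup

variable {G : Type*} [Group G] [Fintype G] [DecidableEq G]
variable {E : Subgroup G} {z : G} {χ : G → ZMod 2}

/-- Coordinates. -/
abbrev Vec := ZMod 2 × ZMod 2 × ZMod 2 × ZMod 2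

/-- The quadratic form. -/
def qf : Vec → ZMod 2 := fun (a, p, q, r) => a * p + q + r + q * r

/-- The alternating form. -/
def bf : Vec → Vec → ZMod 2 := fun (a, p, q, r) (a', p', q', r') => a * p' + p * a' + q * r' + r * q'

open Classical in
/-- Failure to commute. -/
noncomputable def cm (a b : G) : ZMod 2 := if Commute a b then 0 else 1

theorem cm_eq_zero {a b : G} : cm a b = 0 ↔ Commute a b := by
  unfold cm
  by_cases h : Commute a b <;> simp [h]

theorem cm_comm (a b : G) : cm a b = cm b a := by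
  unfold cm
  by_cases h : Commute a b
  · simp [h, h.symm]
  · rw [if_neg h, if_neg fun e : Commute b a => h e.symm]

theorem Env.cm_mul (V : Env E z) {a b w : G} (ha : a ∈ E) (hb : b ∈ E) (hw : w ∈ E) :
    cm (a * b) w = cm a w + cm b w := by
  classical
  by_cases h1 : Commute a w <;> by_cases h2 : Commute b w
  · simp [cm, h1, h2, h1.mul_left h2]
  · have : ¬ Commute (a * b) w := fun h => h2 (by simpa using h1.inv_left.mul_left h)
    simp [cm, h1, h2, this]
  · have : ¬ Commute (a * b) w := fun h => h1 (by simpa using h.mul_left h2.inv_left)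
    simp [cm, h1, h2, this]
  · have := V.x2.commute_mul ha hb hw h1 h2
    simp only [cm, h1, h2, this, if_true, if_false]
    decide

/-- A basis of minus type. -/
structure Quad (E : Subgroup G) (z c h f b : G) : Prop where
  env : Env E z
  card : Nat.card E = 32
  mc : c ∈ E
  mh : h ∈ E
  mf : f ∈ E
  mb : b ∈ E
  cc : c * c = 1
  hh : h * h = 1
  ff : f * f = z
  bb : b * b = z
  nch : ¬ Commute c h
  nfb : ¬ Commute f b
  cf : Commute c f
  cb : Commute c b
  hf : Commute h f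
  hb : Commute h b

/-- The class of an element. -/
noncomputable def cl (c h f b e : G) : Vec := (cm e h, cm e c, cm e b, cm e f)

open Classical in
/-- The element with given coordinates. -/
noncomputable def vmk (c h f b : G) : Vec → G := fun v =>
  (if v.1 = 0 then 1 else c) * (if v.2.1 = 0 then 1 else h) * (if v.2.2.1 = 0 then 1 else f) *
    (if v.2.2.2 = 0 then 1 else b)

variable {c h f b : G} (Q : Quad E z c h f b)
include Q

theorem Quad.parts (v : Vec) [Decidable (v.1 = 0)] [Decidable (v.2.1 = 0)] [Decidable (v.2.2.1 = 0)]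
    [Decidable (v.2.2.2 = 0)] :
    (if v.1 = 0 then 1 else c) ∈ E ∧ (if v.2.1 = 0 then 1 else h) ∈ E ∧ (if v.2.2.1 = 0 then 1 else f) ∈ E ∧
      (if v.2.2.2 = 0 then 1 else b) ∈ E := by
  refine ⟨?_, ?_, ?_, ?_⟩ <;> split_ifs
  all_goals first | exact E.one_mem | exact Q.mc | exact Q.mh | exact Q.mf | exact Q.mb

theorem Quad.mk_mem (v : Vec) : vmk c h f b v ∈ E := by
  unfold vmk
  refine E.mul_mem (E.mul_mem (E.mul_mem ?_ ?_) ?_) ?_ <;> split_ifs
  all_goals first | exact E.one_mem | exact Q.mc | exact Q.mh | exact Q.mf | exact Q.mb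

theorem Quad.cl_mul {x y : G} (hx : x ∈ E) (hy : y ∈ E) :
    cl c h f b (x * y) = cl c h f b x + cl c h f b y := by
  simp [cl, Q.env.cm_mul hx hy Q.mc, Q.env.cm_mul hx hy Q.mh, Q.env.cm_mul hx hy Q.mf, Q.env.cm_mul hx hy Q.mb]

omit Q in
theorem cl_one : cl c h f b (1 : G) = 0 := by simp [cl, cm]

theorem Quad.cl_gens : cl c h f b c = (1, 0, 0, 0) ∧ cl c h f b h = (0, 1, 0, 0) ∧
    cl c h f b f = (0, 0, 1, 0) ∧ cl c h f b b = (0, 0, 0, 1) := by
  simp [cl, cm, Q.nch, Q.nfb, Q.cf, Q.cb, Q.hf, Q.hb, Q.cf.symm, Q.cb.symm, Q.hf.symm, Q.hb.symm,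
    show ¬ Commute h c from fun e => Q.nch e.symm, show ¬ Commute b f from fun e => Q.nfb e.symm]

theorem Quad.cl_z : cl c h f b z = 0 := by
  simp [cl, cm, (Q.env.comm_z Q.mc).symm, (Q.env.comm_z Q.mh).symm, (Q.env.comm_z Q.mf).symm,
    (Q.env.comm_z Q.mb).symm]

theorem Quad.cl_mk (v : Vec) : cl c h f b (vmk c h f b v) = v := by
  classical
  obtain ⟨g1, g2, g3, g4⟩ := Q.cl_gens
  obtain ⟨m1, m2, m3, m4⟩ := Q.parts v
  unfold vmk
  rw [Q.cl_mul (E.mul_mem (E.mul_mem m1 m2) m3) m4, Q.cl_mul (E.mul_mem m1 m2) m3, Q.cl_mul m1 m2,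
    apply_ite (cl c h f b), apply_ite (cl c h f b), apply_ite (cl c h f b), apply_ite (cl c h f b),
    g1, g2, g3, g4, cl_one]
  have hk : ∀ w : Vec, ((((if w.1 = 0 then (0 : Vec) else (1, 0, 0, 0)) + if w.2.1 = 0 then 0 else (0, 1, 0, 0)) +
      if w.2.2.1 = 0 then 0 else (0, 0, 1, 0)) + if w.2.2.2 = 0 then 0 else (0, 0, 0, 1)) = w := by decide
  exact hk v

theorem Quad.cover {e : G} (he : e ∈ E) : ∃ v, e = vmk c h f b v ∨ e = z * vmk c h f b v := by
  classical
  have hz := Q.env.x2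
  let F : Vec × Bool → G := fun p => (if p.2 then z else 1) * vmk c h f b p.1
  have hzE : ∀ s : Bool, (if s then z else (1 : G)) ∈ E := fun s => by
    split_ifs
    exacts [hz.mem, E.one_mem]
  have hF : Function.Injective F := by
    rintro ⟨v, s⟩ ⟨w, t⟩ e
    have e' := congrArg (cl c h f b) e
    have hz0 : ∀ s : Bool, cl c h f b (if s then z else (1 : G)) = 0 := fun s => by
      split_ifs
      exacts [Q.cl_z, cl_one]
    simp only [F, Q.cl_mul (hzE _) (Q.mk_mem _), hz0, zero_add, Q.cl_mk] at e'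
    subst e'
    have e'' := mul_right_cancel e
    rcases s with - | - <;> rcases t with - | - <;> simp_all [hz.ne, Ne.symm hz.ne]
  have hsub : Finset.univ.image F ⊆ Finset.univ.filter (· ∈ E) := by
    intro x hx
    obtain ⟨p, -, rfl⟩ := Finset.mem_image.1 hx
    exact Finset.mem_filter.2 ⟨Finset.mem_univ _, E.mul_mem (hzE _) (Q.mk_mem _)⟩
  have heq := Finset.eq_of_subset_of_card_le hsub (by
    rw [Finset.card_image_of_injective _ hF, ← Fintype.card_subtype, ← Nat.card_eq_fintype_card, Q.card]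
    simp [Fintype.card_prod])
  have : e ∈ Finset.univ.image F := heq ▸ Finset.mem_filter.2 ⟨Finset.mem_univ _, he⟩
  obtain ⟨⟨v, s⟩, -, rfl⟩ := Finset.mem_image.1 this
  rcases s with - | -
  · exact ⟨v, Or.inl (by simp [F])⟩
  · exact ⟨v, Or.inr (by simp [F])⟩

theorem Quad.cl_eq {x y : G} (hx : x ∈ E) (hy : y ∈ E) (he : cl c h f b x = cl c h f b y) :
    y = x ∨ y = z * x := by
  obtain ⟨v, hv⟩ := Q.cover hx
  obtain ⟨w, hw⟩ := Q.cover hy
  have hzz := Q.env.x2.zz
  have hcz : ∀ u, cl c h f b (z * vmk c h f b u) = u := fun u => by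
    rw [Q.cl_mul Q.env.x2.mem (Q.mk_mem u), Q.cl_z, zero_add, Q.cl_mk]
  rcases hv with rfl | rfl <;> rcases hw with rfl | rfl <;> simp only [hcz, Q.cl_mk] at he <;> subst he
  · exact Or.inl rfl
  · exact Or.inr rfl
  · exact Or.inr (by rw [← mul_assoc, hzz, one_mul])
  · exact Or.inl rfl

theorem Quad.cl_zero {x : G} (hx : x ∈ E) (he : cl c h f b x = 0) : x = 1 ∨ x = z := by
  simpa using Q.cl_eq E.one_mem hx (cl_one.trans he.symm)

theorem Quad.cm_bf {x y : G} (hx : x ∈ E) (hy : y ∈ E) : cm x y = bf (cl c h f b x) (cl c h f b y) := by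
  obtain ⟨v, hv⟩ := Q.cover hx
  have hgen : ∀ u, cm (vmk c h f b u) y = bf u (cl c h f b y) := by
    classical
    intro u
    obtain ⟨m1, m2, m3, m4⟩ := Q.parts u
    have h1 : cm (1 : G) y = 0 := by simp [cm]
    have hk : ∀ (u : Vec) (α β γ δ : ZMod 2),
        (if u.1 = 0 then 0 else β) + (if u.2.1 = 0 then 0 else α) + (if u.2.2.1 = 0 then 0 else δ) +
          (if u.2.2.2 = 0 then 0 else γ) = bf u (α, β, γ, δ) := by decide
    unfold vmk
    rw [Q.env.cm_mul (E.mul_mem (E.mul_mem m1 m2) m3) m4 hy, Q.env.cm_mul (E.mul_mem m1 m2) m3 hy,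
      Q.env.cm_mul m1 m2 hy, apply_ite (fun w => cm w y), apply_ite (fun w => cm w y),
      apply_ite (fun w => cm w y), apply_ite (fun w => cm w y), h1, cm_comm c y, cm_comm h y, cm_comm f y,
      cm_comm b y]
    exact hk u _ _ _ _
  rcases hv with rfl | rfl
  · rw [hgen, Q.cl_mk]
  · rw [Q.env.cm_mul Q.env.x2.mem (Q.mk_mem v) hy, hgen, Q.cl_mul Q.env.x2.mem (Q.mk_mem v), Q.cl_z,
      zero_add, Q.cl_mk, show cm z y = 0 from cm_eq_zero.2 (Q.env.comm_z hy).symm, zero_add]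

omit Q in
open Classical in
/-- The square, additively. -/
noncomputable def sqv (a : G) : ZMod 2 := if a * a = 1 then 0 else 1

omit Q in
theorem sqv_mul (V : Env E z) {a b : G} (ha : a ∈ E) (hb : b ∈ E) : sqv (a * b) = sqv a + sqv b + cm a b := by
  classical
  obtain ⟨e1, e2⟩ := V.sq_mul ha hb
  rcases V.x2.sq a ha with sa | sa <;> rcases V.x2.sq b hb with sb | sb <;> by_cases hab : Commute a b
  all_goals
    first
      | (have e := e1 hab
         simp [sqv, cm, sa, sb, hab, e, V.x2.zz, V.x2.ne])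
      | (have e := e2 hab
         simp [sqv, cm, sa, sb, hab, e, V.x2.zz, V.x2.ne])
  all_goals decide

theorem Quad.sqv_qf {x : G} (hx : x ∈ E) : sqv x = qf (cl c h f b x) := by
  classical
  obtain ⟨v, hv⟩ := Q.cover hx
  have hgen : ∀ u, sqv (vmk c h f b u) = qf u := by
    intro u
    obtain ⟨m1, m2, m3, m4⟩ := Q.parts u
    have s1 : sqv (1 : G) = 0 := by simp [sqv]
    have sc : sqv c = 0 := by simp [sqv, Q.cc]
    have sh : sqv h = 0 := by simp [sqv, Q.hh]
    have sf : sqv f = 1 := by simp [sqv, Q.ff, Q.env.x2.ne]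
    have sb : sqv b = 1 := by simp [sqv, Q.bb, Q.env.x2.ne]
    have h1 : ∀ w : G, cm (1 : G) w = 0 ∧ cm w (1 : G) = 0 := fun w => by simp [cm]
    have k1 : cm c h = 1 := by simp [cm, Q.nch]
    have k2 : cm f b = 1 := by simp [cm, Q.nfb]
    have k3 := cm_eq_zero.2 Q.cf
    have k4 := cm_eq_zero.2 Q.cb
    have k5 := cm_eq_zero.2 Q.hf
    have k6 := cm_eq_zero.2 Q.hb
    unfold vmk
    rw [sqv_mul Q.env (E.mul_mem (E.mul_mem m1 m2) m3) m4, sqv_mul Q.env (E.mul_mem m1 m2) m3,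
      sqv_mul Q.env m1 m2, Q.env.cm_mul (E.mul_mem m1 m2) m3 m4, Q.env.cm_mul m1 m2 m3,
      Q.env.cm_mul m1 m2 m4]
    simp only [qf]
    split_ifs <;> simp_all <;> decide +revert
  rcases hv with rfl | rfl
  · rw [hgen, Q.cl_mk]
  · rw [sqv_mul Q.env Q.env.x2.mem (Q.mk_mem v), hgen, Q.cl_mul Q.env.x2.mem (Q.mk_mem v), Q.cl_z, zero_add,
      Q.cl_mk, show cm z (vmk c h f b v) = 0 from cm_eq_zero.2 (Q.env.comm_z (Q.mk_mem v)).symm, add_zero,
      show sqv z = 0 by simp [sqv, Q.env.x2.zz], zero_add]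

/-- Involutions commuting with an involution. -/
theorem Quad.four {c₀ w : G} (h0 : c₀ ∈ E) (hw : w ∈ E) (h0s : c₀ * c₀ = 1) (hws : w * w = 1)
    (hn1 : c₀ ≠ 1) (hnz : c₀ ≠ z) (hc : Commute w c₀) : w = 1 ∨ w = z ∨ w = c₀ ∨ w = z * c₀ := by
  have key : ∀ v u : Vec, qf v = 0 → qf u = 0 → bf u v = 0 → v ≠ 0 → u = 0 ∨ u = v := by decide
  have h1 := Q.sqv_qf h0
  have h2 := Q.sqv_qf hw
  simp only [sqv, h0s, hws, if_true] at h1 h2
  have h3 := Q.cm_bf hw h0
  rw [cm_eq_zero.2 hc] at h3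
  rcases key _ _ h1.symm h2.symm h3.symm (fun e => (Q.cl_zero h0 e).elim hn1 hnz) with e | e
  · rcases Q.cl_zero hw e with e | e
    · exact Or.inl e
    · exact Or.inr (Or.inl e)
  · rcases Q.cl_eq h0 hw e.symm with e | e
    · exact Or.inr (Or.inr (Or.inl e))
    · exact Or.inr (Or.inr (Or.inr e))

/-- Any hyperbolic pair begins a basis. -/
theorem Quad.rebase {c₀ c₁ : G} (h0 : c₀ ∈ E) (h1 : c₁ ∈ E) (h0s : c₀ * c₀ = 1) (h1s : c₁ * c₁ = 1)
    (hn : ¬ Commute c₀ c₁) : ∃ i j, Quad E z c₀ c₁ i j := by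
  have key : ∀ v w : Vec, qf v = 0 → qf w = 0 → bf v w = 1 → ∃ i j : Vec,
      bf v i = 0 ∧ bf v j = 0 ∧ bf w i = 0 ∧ bf w j = 0 ∧ qf i = 1 ∧ qf j = 1 ∧ bf i j = 1 := by decide
  have h01 : ∀ t : ZMod 2, t ≠ 0 → t = 1 := by decide
  have s0 := Q.sqv_qf h0
  have s1 := Q.sqv_qf h1
  simp only [sqv, h0s, h1s, if_true] at s0 s1
  have hb1 : bf (cl c h f b c₀) (cl c h f b c₁) = 1 := by
    rw [← Q.cm_bf h0 h1]
    exact h01 _ (fun e => hn (cm_eq_zero.1 e))
  obtain ⟨i, j, a1, a2, a3, a4, a5, a6, a7⟩ := key _ _ s0.symm s1.symm hb1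
  set I := vmk c h f b i
  set J := vmk c h f b j
  have hI := Q.mk_mem i
  have hJ := Q.mk_mem j
  have comm : ∀ {x y : G}, x ∈ E → y ∈ E → bf (cl c h f b x) (cl c h f b y) = 0 → Commute x y :=
    fun hx hy e => cm_eq_zero.1 ((Q.cm_bf hx hy).trans e)
  have sqz : ∀ {x : G}, x ∈ E → qf (cl c h f b x) = 1 → x * x = z := fun {x} hx e => by
    refine (Q.env.x2.sq x hx).resolve_left fun hxx => ?_
    have := (Q.sqv_qf hx).trans e
    simp [sqv, hxx] at this
  have eI : cl c h f b I = i := Q.cl_mk i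
  have eJ : cl c h f b J = j := Q.cl_mk j
  refine ⟨I, J, ⟨Q.env, Q.card, h0, h1, hI, hJ, h0s, h1s, sqz hI (by rw [eI, a5]), sqz hJ (by rw [eJ, a6]), hn,
    fun e => ?_, comm h0 hI (by rw [eI, a1]), comm h0 hJ (by rw [eJ, a2]), comm h1 hI (by rw [eI, a3]),
    comm h1 hJ (by rw [eJ, a4])⟩⟩
  have := cm_eq_zero.2 e
  rw [Q.cm_bf hI hJ, eI, eJ, a7] at this
  exact one_ne_zero this

end Cfsg.Lib.LargeTransfer
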