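import Cfsg.Agent.InvolCalc.LargeTransfer.Minus

/-!
Width two, minus type: the form vanishes on the centralizer of a conjugate.
-/

set_option autoImplicit false
set_option linter.unusedSectionVars false
set_option linter.style.haveILetI false
set_option synthInstance.maxSize 2000

namespace Cfsg.Lib.LargeTransfer

open Subgroup

variable {G : Type*} [Group G] [Fintype G] [DecidableEq G]
variable {E : Subgroup G} {z : G} {χ : G → ZMod 2}

/-- The action fixing the first basis vector. -/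
def rho : ZMod 2 × ZMod 2 → Vec → Vec := fun (l, m) (a, p, q, r) =>
  (a + p * (l + m + l * m) + q * l + r * m, p, q + p * m, r + p * l)

/-- Exchange of the first two coordinates. -/
def flp : Vec → Vec := fun (a, p, q, r) => (p, a, q, r)

theorem rho_period : ∀ l m : ZMod 2 × ZMod 2, l ≠ 0 → m ≠ 0 → ∀ v : Vec,
    ((fun v => rho l (flp (rho m (flp v))))^[15]) v = v := by decide

/-- The conditions on an element in the conjugate core. -/
structure Side (E : Subgroup G) (z c₀ y : G) : Prop where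
  yz : Commute y z
  yc : Commute y c₀
  out : y ∉ E
  comm : ∀ e ∈ E, Commute e c₀ → e⁻¹ * (y * e * y⁻¹) = 1 ∨ e⁻¹ * (y * e * y⁻¹) = z ∨
    e⁻¹ * (y * e * y⁻¹) = c₀ ∨ e⁻¹ * (y * e * y⁻¹) = z * c₀

variable {c h f b : G}

theorem Quad.flip (Q : Quad E z c h f b) : Quad E z h c f b :=
  ⟨Q.env, Q.card, Q.mh, Q.mc, Q.mf, Q.mb, Q.hh, Q.cc, Q.ff, Q.bb, fun e => Q.nch e.symm, Q.nfb, Q.hf, Q.hb,
    Q.cf, Q.cb⟩

theorem cl_flip (e : G) : cl h c f b e = flp (cl c h f b e) := rfl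

variable (Q : Quad E z c h f b)
include Q

theorem Quad.cent {k : G} (hkz : Commute k z)
    (hk : ∀ e ∈ E, cl c h f b (k * e * k⁻¹) = cl c h f b e) : k ∈ E := by
  classical
  let lam : G → ZMod 2 := fun g => if k * g * k⁻¹ = g then 0 else 1
  set r := vmk c h f b (lam h, lam c, lam b, lam f) with hr
  have hrE : r ∈ E := Q.mk_mem _
  have hcl := Q.cl_mk (lam h, lam c, lam b, lam f)
  simp only [cl, Prod.mk.injEq, ← hr] at hcl
  have hgen : ∀ g ∈ E, cm r g = lam g → Commute (r⁻¹ * k) g := by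
    intro g hg e
    refine conj_fix_iff.1 ?_
    have hg' := Q.cl_eq hg (Q.env.conjE hkz hg) (hk g hg).symm
    have he : r * g * r⁻¹ = k * g * k⁻¹ := by
      by_cases hf : k * g * k⁻¹ = g
      · have h0 : Commute r g := cm_eq_zero.1 (e.trans (if_pos hf))
        rw [hf, conj_fix h0]
      · have h1 : ¬ Commute r g := fun h' => by
          have := (cm_eq_zero.2 h').symm.trans e
          simp [lam, hf] at this
        rw [hg'.resolve_left hf, Q.env.x2.not_commute_conj hrE hg h1]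
    calc r⁻¹ * k * g * (r⁻¹ * k)⁻¹ = r⁻¹ * (k * g * k⁻¹) * r := by group
      _ = r⁻¹ * (r * g * r⁻¹) * r := by rw [he]
      _ = g := by group
  have h1 := hgen h Q.mh hcl.1
  have h2 := hgen c Q.mc hcl.2.1
  have h3 := hgen b Q.mb hcl.2.2.1
  have h4 := hgen f Q.mf hcl.2.2.2
  have hzz : Commute (r⁻¹ * k) z := (Q.env.comm_z hrE).inv_left.mul_left hkz
  have hall : ∀ e ∈ E, Commute (r⁻¹ * k) e := by
    intro e he
    have hv : ∀ v, Commute (r⁻¹ * k) (vmk c h f b v) := by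
      intro v
      unfold vmk
      refine ((Commute.mul_right ?_ ?_).mul_right ?_).mul_right ?_ <;> split_ifs
      all_goals first | exact Commute.one_right _ | exact h2 | exact h1 | exact h4 | exact h3
    obtain ⟨v, rfl | rfl⟩ := Q.cover he
    · exact hv v
    · exact hzz.mul_right (hv v)
  have := Q.env.cen (mem_centralizer_iff.2 fun e he => (hall e he).symm.eq)
  exact (E.mul_mem_cancel_left (E.inv_mem hrE)).1 this

theorem Quad.act {y : G} (S : Side E z c y) :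
    ∃ l : ZMod 2 × ZMod 2, l ≠ 0 ∧ ∀ e ∈ E, cl c h f b (y * e * y⁻¹) = rho l (cl c h f b e) := by
  classical
  obtain ⟨g1, g2, g3, g4⟩ := Q.cl_gens
  have hm : ∀ e ∈ E, y * e * y⁻¹ ∈ E := fun e he => Q.env.conjE S.yz he
  have hadd : ∀ a ∈ E, ∀ d ∈ E, cl c h f b (y * (a * d) * y⁻¹) =
      cl c h f b (y * a * y⁻¹) + cl c h f b (y * d * y⁻¹) := fun a ha d hd => by
    rw [← Q.cl_mul (hm a ha) (hm d hd)]
    congr 1
    group
  have hsq : ∀ a ∈ E, qf (cl c h f b (y * a * y⁻¹)) = qf (cl c h f b a) := fun a ha => by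
    rw [← Q.sqv_qf (hm a ha), ← Q.sqv_qf ha]
    have e : y * a * y⁻¹ * (y * a * y⁻¹) = 1 ↔ a * a = 1 := by
      rw [show y * a * y⁻¹ * (y * a * y⁻¹) = y * (a * a) * y⁻¹ by group, conj_eq_one_iff]
    simp only [sqv, e]
  have hbf : ∀ a ∈ E, ∀ d ∈ E, bf (cl c h f b (y * a * y⁻¹)) (cl c h f b (y * d * y⁻¹)) =
      bf (cl c h f b a) (cl c h f b d) := fun a ha d hd => by
    rw [← Q.cm_bf (hm a ha) (hm d hd), ← Q.cm_bf ha hd]
    have e : Commute (y * a * y⁻¹) (y * d * y⁻¹) ↔ Commute a d := by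
      refine ⟨fun e => ?_, fun e => e.map (MulAut.conj y).toMonoidHom⟩
      have := e.map (MulAut.conj y⁻¹).toMonoidHom
      simpa [mul_assoc] using this
    simp only [cm, e]
  have hside : ∀ e ∈ E, Commute e c → ∃ l : ZMod 2, cl c h f b (y * e * y⁻¹) = cl c h f b e + (l, 0, 0, 0) := by
    intro e he hec
    have hsum : cl c h f b (y * e * y⁻¹) = cl c h f b e + cl c h f b (e⁻¹ * (y * e * y⁻¹)) := by
      rw [← Q.cl_mul he (E.mul_mem (E.inv_mem he) (hm e he)), mul_inv_cancel_left]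
    rw [hsum]
    rcases S.comm e he hec with e' | e' | e' | e' <;> rw [e']
    · exact ⟨0, by rw [cl_one]; rfl⟩
    · exact ⟨0, by rw [Q.cl_z]; rfl⟩
    · exact ⟨1, by rw [g1]⟩
    · exact ⟨1, by rw [Q.cl_mul Q.env.x2.mem Q.mc, Q.cl_z, g1, zero_add]⟩
  obtain ⟨l, hl⟩ := hside f Q.mf Q.cf.symm
  obtain ⟨m, hm'⟩ := hside b Q.mb Q.cb.symm
  rw [g3] at hl
  rw [g4] at hm'
  have hc' : cl c h f b (y * c * y⁻¹) = (1, 0, 0, 0) := by rw [conj_fix S.yc, g1]
  have hrig : ∀ (l m : ZMod 2) (w : Vec), qf w = 0 → bf (1, 0, 0, 0) w = 1 →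
      bf w ((0, 0, 1, 0) + (l, 0, 0, 0)) = 0 → bf w ((0, 0, 0, 1) + (m, 0, 0, 0)) = 0 →
      w = (l + m + l * m, 1, m, l) := by decide
  have hw := hrig l m (cl c h f b (y * h * y⁻¹))
    (by rw [hsq h Q.mh, g2]; rfl)
    (by rw [← hc', hbf c Q.mc h Q.mh, g1, g2]; rfl)
    (by rw [← hl, hbf h Q.mh f Q.mf, g2, g3]; rfl)
    (by rw [← hm', hbf h Q.mh b Q.mb, g2, g4]; rfl)
  have hlin : ∀ v : Vec, cl c h f b (y * vmk c h f b v * y⁻¹) = rho (l, m) v := by
    intro v
    have hk : ∀ (l m : ZMod 2) (v : Vec),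
        ((((if v.1 = 0 then (0 : Vec) else (1, 0, 0, 0)) + if v.2.1 = 0 then 0 else (l + m + l * m, 1, m, l)) +
          if v.2.2.1 = 0 then 0 else (0, 0, 1, 0) + (l, 0, 0, 0)) +
          if v.2.2.2 = 0 then 0 else (0, 0, 0, 1) + (m, 0, 0, 0)) = rho (l, m) v := by decide
    obtain ⟨m1, m2, m3, m4⟩ := Q.parts v
    have h0 : cl c h f b (y * 1 * y⁻¹) = 0 := by rw [mul_one, mul_inv_cancel, cl_one]
    unfold vmk
    rw [hadd _ (E.mul_mem (E.mul_mem m1 m2) m3) _ m4, hadd _ (E.mul_mem m1 m2) _ m3, hadd _ m1 _ m2,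
      apply_ite (fun w => cl c h f b (y * w * y⁻¹)), apply_ite (fun w => cl c h f b (y * w * y⁻¹)),
      apply_ite (fun w => cl c h f b (y * w * y⁻¹)), apply_ite (fun w => cl c h f b (y * w * y⁻¹)),
      h0, hc', hw, hl, hm']
    exact hk l m v
  have hfull : ∀ e ∈ E, cl c h f b (y * e * y⁻¹) = rho (l, m) (cl c h f b e) := by
    intro e he
    obtain ⟨v, rfl | rfl⟩ := Q.cover he
    · rw [hlin, Q.cl_mk]
    · rw [hadd z Q.env.x2.mem _ (Q.mk_mem v), conj_fix S.yz, Q.cl_z, zero_add, hlin,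
        Q.cl_mul Q.env.x2.mem (Q.mk_mem v), Q.cl_z, zero_add, Q.cl_mk]
  refine ⟨(l, m), fun e0 => S.out (Q.cent S.yz fun e he => ?_), hfull⟩
  rw [hfull e he, e0]
  exact (by decide : ∀ v : Vec, rho 0 v = v) _

theorem Quad.pair_kill (L : Lin z χ) (hE : ∀ e ∈ E, χ e = 0) {y y' : G} (S : Side E z c y) (S' : Side E z h y') :
    χ y = χ y' := by
  classical
  obtain ⟨l, hl, hact⟩ := Q.act S
  obtain ⟨m, hm, hact'⟩ := Q.flip.act S'
  set w := y * y' with hw
  have hwz : Commute w z := S.yz.mul_left S'.yz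
  let step : Vec → Vec := fun v => rho l (flp (rho m (flp v)))
  have hstep : ∀ e ∈ E, cl c h f b (w * e * w⁻¹) = step (cl c h f b e) := by
    intro e he
    rw [show w * e * w⁻¹ = y * (y' * e * y'⁻¹) * y⁻¹ by rw [hw]; group, hact _ (Q.env.conjE S'.yz he)]
    have := hact' e he
    rw [cl_flip (c := c) (h := h), cl_flip (c := c) (h := h)] at this
    have hff : ∀ v : Vec, flp (flp v) = v := by decide
    simp only [step]
    rw [← this, hff]
  have hit : ∀ (n : ℕ), ∀ e ∈ E, cl c h f b (w ^ n * e * (w ^ n)⁻¹) = step^[n] (cl c h f b e) := by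
    intro n
    induction n with
    | zero => intro e _; simp
    | succ n ih =>
      intro e he
      rw [Function.iterate_succ_apply', ← ih e he, ← hstep _ (Q.env.conjE (hwz.pow_left n) he), pow_succ']
      congr 1
      group
  have hk : w ^ 15 ∈ E := Q.cent (hwz.pow_left 15) fun e he => (hit 15 e he).trans (rho_period l m hl hm _)
  have h15 : ∀ k : ℕ, χ (w ^ k) = k * χ w := by
    intro k
    induction k with
    | zero => simp [L.one]
    | succ k ih => rw [pow_succ, L.add _ _ (hwz.pow_left k) hwz, ih]; push_cast; ring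
  have h0 := h15 15
  rw [hE _ hk, show ((15 : ℕ) : ZMod 2) = 1 by decide, one_mul, hw, L.add _ _ S.yz S'.yz] at h0
  exact (by decide : ∀ a d : ZMod 2, 0 = a + d → a = d) _ _ h0

omit Q

theorem odd_fix {k a d : G} (hk : Odd (orderOf k)) (he : k * a * k⁻¹ = a * d) (hd : Commute k d)
    (hd4 : d ^ 4 = 1) : Commute k a := by
  have hn : ∀ n : ℕ, k ^ n * a * (k ^ n)⁻¹ = a * d ^ n := by
    intro n
    induction n with
    | zero => simp
    | succ n ih =>
      rw [show k ^ (n + 1) * a * (k ^ (n + 1))⁻¹ = k * (k ^ n * a * (k ^ n)⁻¹) * k⁻¹ by rw [pow_succ']; group, ih,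
        show k * (a * d ^ n) * k⁻¹ = (k * a * k⁻¹) * (k * d ^ n * k⁻¹) by group, he, conj_fix (hd.pow_right n),
        mul_assoc, ← pow_succ']
  have h0 := hn (orderOf k)
  rw [pow_orderOf_eq_one, one_mul, inv_one, mul_one] at h0
  have h1 : d ^ orderOf k = 1 := mul_eq_left.1 h0.symm
  have hcop : Nat.Coprime (2 ^ 2) (orderOf k) := (Nat.coprime_two_left.2 hk).pow_left 2
  have h2 : orderOf d ∣ 1 := hcop ▸ Nat.dvd_gcd (orderOf_dvd_of_pow_eq_one (by simpa using hd4))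
    (orderOf_dvd_of_pow_eq_one h1)
  rw [orderOf_eq_one_iff.1 (Nat.dvd_one.1 h2), mul_one] at he
  exact mul_inv_eq_iff_eq_mul.1 he

/-- Some element of the centralizer moves an involution off its coset. -/
theorem Quad.exists_move (Q : Quad E z c h f b) (hmax : ∀ N : Subgroup G, N ≤ centralizer ({z} : Set G) → IsPGroup 2 N →
      centralizer ({z} : Set G) ≤ normalizer (N : Set G) → N ≤ E)
    {c₀ y : G} (h0 : c₀ ∈ E) (h0s : c₀ * c₀ = 1) (hn1 : c₀ ≠ 1) (hnz : c₀ ≠ z) (S : Side E z c₀ y) :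
    ∃ k, Commute k z ∧ ¬ Commute (k * c₀ * k⁻¹) c₀ := by
  by_contra! hall
  have V := Q.env
  set H := centralizer ({z} : Set G) with hH
  have hzH : ∀ k, k ∈ H ↔ Commute k z := fun k => mem_centralizer_singleton_iff
  let U : G → Prop := fun w => w = 1 ∨ w = z ∨ w = c₀ ∨ w = z * c₀
  have hUiff : ∀ w, U w ↔ w ∈ E ∧ w * w = 1 ∧ Commute w c₀ := by
    intro w
    constructor
    · rintro (rfl | rfl | rfl | rfl)
      · exact ⟨E.one_mem, mul_one 1, Commute.one_left _⟩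
      · exact ⟨V.x2.mem, V.x2.zz, (V.comm_z h0).symm⟩
      · exact ⟨h0, h0s, Commute.refl _⟩
      · refine ⟨E.mul_mem V.x2.mem h0, ?_, (V.comm_z h0).symm.mul_left (Commute.refl _)⟩
        rw [show z * c₀ * (z * c₀) = z * (c₀ * z) * c₀ by group, (V.comm_z h0).eq, ← mul_assoc z z, V.x2.zz,
          one_mul, h0s]
    · rintro ⟨h1, h2, h3⟩
      exact Q.four h0 h1 h0s h2 hn1 hnz h3
  have hUmul : ∀ a d, U a → U d → U (a * d) := by
    intro a d ha hd
    obtain ⟨a1, a2, a3⟩ := (hUiff a).1 ha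
    obtain ⟨d1, d2, d3⟩ := (hUiff d).1 hd
    have had : Commute a d := by
      have hz' : ∀ {u}, u ∈ E → Commute u z := fun hu => V.comm_z hu
      rcases hd with rfl | rfl | rfl | rfl
      · exact Commute.one_right a
      · exact hz' a1
      · exact a3
      · exact (hz' a1).mul_right a3
    refine (hUiff _).2 ⟨E.mul_mem a1 d1, ?_, a3.mul_left d3⟩
    rw [(V.sq_mul a1 d1).1 had, a2, d2, one_mul]
  have hUinv : ∀ a, U a → U a⁻¹ := fun a ha => by
    rw [inv_eq_of_mul_eq_one_right ((hUiff a).1 ha).2.1]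
    exact ha
  have hUc0 : ∀ k ∈ H, U (k * c₀ * k⁻¹) := fun k hk => (hUiff _).2 ⟨V.conjE ((hzH k).1 hk) h0, by
    rw [show k * c₀ * k⁻¹ * (k * c₀ * k⁻¹) = k * (c₀ * c₀) * k⁻¹ by group, h0s, mul_one, mul_inv_cancel],
    hall k ((hzH k).1 hk)⟩
  have hUconj : ∀ k ∈ H, ∀ w, U w → U (k * w * k⁻¹) := by
    intro k hk w hw
    have hkz := conj_fix ((hzH k).1 hk)
    rcases hw with rfl | rfl | rfl | rfl
    · left; group
    · right; left; exact hkz
    · exact hUc0 k hk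
    · rw [show k * (z * c₀) * k⁻¹ = k * z * k⁻¹ * (k * c₀ * k⁻¹) by group, hkz]
      exact hUmul _ _ (Or.inr (Or.inl rfl)) (hUc0 k hk)
  have hFconj : ∀ k ∈ H, ∀ e ∈ E, Commute e c₀ → Commute (k * e * k⁻¹) c₀ := by
    intro k hk e he hec
    have hh := ((hUiff _).1 (hUc0 k⁻¹ (H.inv_mem hk))).1
    have h1 : Commute e (k⁻¹ * c₀ * k⁻¹⁻¹) := by
      rcases hUc0 k⁻¹ (H.inv_mem hk) with e' | e' | e' | e' <;> rw [e']
      · exact Commute.one_right e
      · exact V.comm_z he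
      · exact hec
      · exact (V.comm_z he).mul_right hec
    have := h1.map (MulAut.conj k).toMonoidHom
    simpa [mul_assoc] using this
  let R : Subgroup G :=
    { carrier := {k | k ∈ H ∧ ∀ e ∈ E, Commute e c₀ → U (e⁻¹ * (k * e * k⁻¹))}
      one_mem' := ⟨H.one_mem, fun e _ _ => Or.inl (by group)⟩
      mul_mem' := fun {k l} hk hl => ⟨H.mul_mem hk.1 hl.1, fun e he hec => by
        rw [show e⁻¹ * (k * l * e * (k * l)⁻¹) =
          e⁻¹ * (k * e * k⁻¹) * (k * (e⁻¹ * (l * e * l⁻¹)) * k⁻¹) by group]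
        exact hUmul _ _ (hk.2 e he hec) (hUconj k hk.1 _ (hl.2 e he hec))⟩
      inv_mem' := fun {k} hk => ⟨H.inv_mem hk.1, fun e he hec => by
        have hki := H.inv_mem hk.1
        rw [show e⁻¹ * (k⁻¹ * e * k⁻¹⁻¹) = k⁻¹ * (k * e⁻¹ * k⁻¹ * e) * k⁻¹⁻¹ by group]
        refine hUconj k⁻¹ hki _ ?_
        rw [show k * e⁻¹ * k⁻¹ * e = (e⁻¹ * (k * e * k⁻¹))⁻¹ by group]
        exact hUinv _ (hk.2 e he hec)⟩ }
  have hRH : R ≤ H := fun k hk => hk.1
  have hRP : IsPGroup 2 R := by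
    intro k
    obtain ⟨a, r, hr, hord⟩ := Nat.exists_eq_two_pow_mul_odd (orderOf_pos (k : G)).ne'
    refine ⟨a, Subtype.ext ?_⟩
    show (k : G) ^ 2 ^ a = 1
    set j := (k : G) ^ 2 ^ a with hj
    have hjR : j ∈ R := R.pow_mem k.2 _
    have hjo : Odd (orderOf j) := by
      have : orderOf j ∣ r := orderOf_dvd_of_pow_eq_one (by rw [hj, ← pow_mul, ← hord, pow_orderOf_eq_one])
      exact hr.of_dvd_nat this
    have hjz : Commute j z := (hzH j).1 hjR.1
    have hp4 : ∀ d ∈ E, d ^ 4 = 1 := fun d hd => by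
      rw [show d ^ 4 = (d * d) * (d * d) by rw [show (4 : ℕ) = 2 + 2 from rfl, pow_add, pow_two]]
      rcases V.x2.sq d hd with e | e <;> rw [e]
      · exact mul_one 1
      · exact V.x2.zz
    have hjc : Commute j c₀ := by
      rcases hUc0 j hjR.1 with e | e | e | e
      · exact absurd (conj_eq_one_iff.1 e) hn1
      · refine absurd ?_ hnz
        calc c₀ = j⁻¹ * (j * c₀ * j⁻¹) * j := by group
          _ = j⁻¹ * z * j := by rw [e]
          _ = z := by rw [mul_assoc, ← hjz.eq, inv_mul_cancel_left]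
      · exact conj_fix_iff.1 e
      · exact odd_fix hjo (d := z) (by rw [e, (V.comm_z h0).eq]) hjz (hp4 z V.x2.mem)
    have hjU : ∀ w, U w → Commute j w := by
      rintro w (rfl | rfl | rfl | rfl)
      exacts [Commute.one_right j, hjz, hjc, hjz.mul_right hjc]
    have hjF : ∀ e ∈ E, Commute e c₀ → Commute j e := fun e he hec => by
      refine odd_fix hjo (d := e⁻¹ * (j * e * j⁻¹)) (mul_inv_cancel_left _ _).symm (hjU _ (hjR.2 e he hec))
        (hp4 _ (E.mul_mem (E.inv_mem he) (V.conjE hjz he)))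
    have hjE : j ∈ E := by
      refine V.cen (mem_centralizer_iff.2 fun e he => ?_)
      by_cases hec : Commute e c₀
      · exact (hjF e he hec).symm.eq
      refine (odd_fix hjo (d := e⁻¹ * (j * e * j⁻¹)) (mul_inv_cancel_left _ _).symm (hjF _ ?_ ?_)
        (hp4 _ ?_)).symm.eq
      · exact E.mul_mem (E.inv_mem he) (V.conjE hjz he)
      · refine V.x2.commute_mul (E.inv_mem he) (V.conjE hjz he) h0 (fun h' => hec (Commute.inv_left_iff.1 h'))
          fun h' => hec ?_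
        have := h'.map (MulAut.conj j⁻¹).toMonoidHom
        have e1 : MulAut.conj j⁻¹ c₀ = c₀ := by rw [MulAut.conj_apply]; exact conj_fix hjc.inv_left
        have e2 : j⁻¹ * (c₀ * j) = c₀ := by rw [← hjc.eq, inv_mul_cancel_left]
        simpa [e2, e1, mul_assoc] using this
      · exact E.mul_mem (E.inv_mem he) (V.conjE hjz he)
    have hdiv : orderOf j ∣ 4 := orderOf_dvd_of_pow_eq_one (hp4 j hjE)
    obtain ⟨i, -, hi⟩ := (Nat.dvd_prime_pow Nat.prime_two).1 (show orderOf j ∣ 2 ^ 2 by simpa using hdiv)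
    rcases i with - | i
    · exact orderOf_eq_one_iff.1 (hi.trans (pow_zero 2))
    · rw [hi, pow_succ] at hjo
      exact absurd hjo (Nat.not_odd_iff_even.2 (by simp))
  have hnorm : H ≤ normalizer (R : Set G) := by
    intro k hk
    have key : ∀ k ∈ H, ∀ j ∈ R, k * j * k⁻¹ ∈ R := by
      intro k hk j hj
      refine ⟨H.mul_mem (H.mul_mem hk hj.1) (H.inv_mem hk), fun e he hec => ?_⟩
      have hki := H.inv_mem hk
      have h1 := hj.2 _ (V.conjE ((hzH _).1 hki) he) (hFconj k⁻¹ hki e he hec)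
      have := hUconj k hk _ h1
      convert this using 1
      group
    refine mem_normalizer_iff.2 fun j => ⟨key k hk j, fun h => ?_⟩
    have := key k⁻¹ (H.inv_mem hk) _ h
    simpa [mul_assoc] using this
  exact S.out (hmax R hRH hRP hnorm ⟨(hzH y).2 S.yz, S.comm⟩)

/-- Width two: the forms vanish. -/
theorem flat_minus (V : Env E z) (L : Lin z χ) (h32 : Nat.card E = 32) (hE : ∀ e ∈ E, χ e = 0)
    (hmax : ∀ N : Subgroup G, N ≤ centralizer ({z} : Set G) → IsPGroup 2 N →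
      centralizer ({z} : Set G) ≤ normalizer (N : Set G) → N ≤ E)
    (hno : NoInvol z χ) : Flat E z χ := by
  classical
  intro c hcE hcj hcne h2 f₀ hf₀ hf₀c
  by_contra hu
  have h01 : ∀ a : ZMod 2, a ≠ 0 → a = 1 := by decide
  have hcz : Commute c z := V.comm_z hcE
  have hc1 : c ≠ 1 := fun e => by
    obtain ⟨g, hg⟩ := isConj_iff.1 hcj
    exact V.x2.ne (conj_eq_one_iff.1 (hg.trans e))
  have hcc : c * c = 1 := by
    obtain ⟨g, rfl⟩ := isConj_iff.1 hcj
    rw [show g * z * g⁻¹ * (g * z * g⁻¹) = g * (z * z) * g⁻¹ by group, V.x2.zz, mul_one, mul_inv_cancel]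
  have hinv0 : ∀ a, Commute a c → a * a = 1 → tw χ z c a = 0 := fun a h1 h2 => tw_invol hno hcj h1 h2
  have hf₀sq : f₀ * f₀ = z := (V.x2.sq f₀ hf₀).resolve_left fun e => hu (hinv0 f₀ hf₀c e)
  obtain ⟨b₀, hb₀, hb₀c, hn⟩ : ∃ b ∈ E, Commute b c ∧ ¬ Commute f₀ b := by
    by_contra! hcent
    obtain ⟨-, -, v, hv, -, -, -, -, -, hcls⟩ := V.half hcz h2
    have hfv := hcls f₀ hf₀ fun g hg hgc => hcent g hg hgc
    have hcv := hcls c hcE fun g _ hgc => hgc.symm
    have hv' : v = c ∨ v = z * c := by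
      rcases hcv with e | e | e | e
      · exact absurd e hc1
      · exact absurd e hcne
      · exact Or.inl e.symm
      · exact Or.inr (by rw [e, ← mul_assoc, V.x2.zz, one_mul])
    have hvv : v * v = 1 := by
      rcases hv' with rfl | rfl
      · exact hcc
      · rw [show z * c * (z * c) = z * (c * z) * c by group, hcz.eq, ← mul_assoc z z, V.x2.zz, one_mul, hcc]
    refine hu (hinv0 f₀ hf₀c ?_)
    rcases hfv with rfl | rfl | rfl | rfl
    · exact mul_one 1
    · exact V.x2.zz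
    · exact hvv
    · rw [show z * v * (z * v) = z * (v * z) * v by group, (V.comm_z hv).eq, ← mul_assoc z z, V.x2.zz, one_mul, hvv]
  have hb₀sq : b₀ * b₀ = z := by
    refine (V.x2.sq b₀ hb₀).resolve_left fun e => hu ?_
    have h1 := L.tw_add (χ := χ) hcj hf₀c hb₀c
    rw [hinv0 b₀ hb₀c e, hinv0 (f₀ * b₀) (hf₀c.mul_left hb₀c)
      (by rw [(V.sq_mul hf₀ hb₀).2 hn, hf₀sq, e, mul_one, V.x2.zz]), add_zero] at h1
    exact h1.symm
  obtain ⟨h₀, hh₀, hhc⟩ := V.x2.exists_swap hcE (by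
    rw [Cfsg.Lib.LargeExtra.mem_zpowers_two V.x2.zz]
    exact fun e => e.elim hc1 hcne)
  have hhn : ¬ Commute h₀ c := fun e => V.x2.ne (mul_eq_right.1 ((conj_fix e).symm.trans hhc).symm)
  obtain ⟨h, hh, hhsq, hch⟩ : ∃ h ∈ E, h * h = 1 ∧ ¬ Commute c h := by
    rcases V.x2.sq h₀ hh₀ with e | e
    · exact ⟨h₀, hh₀, e, fun e' => hhn e'.symm⟩
    · refine ⟨h₀ * c, E.mul_mem hh₀ hcE, by rw [(V.sq_mul hh₀ hcE).2 hhn, e, hcc, mul_one, V.x2.zz], fun e' => hhn ?_⟩
      simpa using e'.symm.mul_left (Commute.refl c).inv_left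
  have hadj : ∀ a ∈ E, Commute a c → a * a = z → ∃ a' ∈ E, Commute a' c ∧ a' * a' = z ∧ Commute h a' ∧
      tw χ z c a' = tw χ z c a ∧ (a' = a ∨ a' = a * c) := by
    intro a ha hac haa
    by_cases hah : Commute a h
    · exact ⟨a, ha, hac, haa, hah.symm, rfl, Or.inl rfl⟩
    · refine ⟨a * c, E.mul_mem ha hcE, hac.mul_left (Commute.refl c), ?_,
        (V.x2.commute_mul ha hcE hh hah hch).symm, ?_, Or.inr rfl⟩
      · rw [(V.sq_mul ha hcE).1 hac, haa, hcc, mul_one]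
      · rw [L.tw_add hcj hac (Commute.refl c), hinv0 c (Commute.refl c) hcc, add_zero]
  obtain ⟨f, hf, hfc, hff, hhf, huf, hf'⟩ := hadj f₀ hf₀ hf₀c hf₀sq
  obtain ⟨b, hb, hbc, hbb, hhb, -, hb'⟩ := hadj b₀ hb₀ hb₀c hb₀sq
  have hfb : ¬ Commute f b := fun e => hn (by
    have strip : ∀ {p q q' : G}, Commute p c → (q' = q ∨ q' = q * c) → Commute p q' → Commute p q := by
      intro p q q' hpc hq hpq
      rcases hq with rfl | rfl
      · exact hpq
      · simpa using hpq.mul_right hpc.inv_right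
    exact (strip hb₀c hf' (strip hfc hb' e).symm).symm)
  have Q : Quad E z c h f b :=
    ⟨V, h32, hcE, hh, hf, hb, hcc, hhsq, hff, hbb, hch, hfb, hfc.symm, hbc.symm, hhf, hhb⟩
  -- the symmetric conjugate
  obtain ⟨g, hg⟩ := isConj_iff.1 hcj
  set c₀ := g⁻¹ * z * g with hc₀
  have hc₀E : c₀ ∈ E := Cfsg.Lib.LargeExtra.mem_conj_of_mem V.x2 V.cen V.norm (by omega)
    (by rw [hg]; exact hcE) (by rw [hg]; exact hcne)
  have hc₀s : c₀ * c₀ = 1 := by
    rw [hc₀, show g⁻¹ * z * g * (g⁻¹ * z * g) = g⁻¹ * (z * z) * g by group, V.x2.zz, mul_one, inv_mul_cancel]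
  have hc₀1 : c₀ ≠ 1 := fun e => V.x2.ne (by
    calc z = g * c₀ * g⁻¹ := by rw [hc₀]; group
      _ = 1 := by rw [e]; group)
  have hc₀z : c₀ ≠ z := fun e => hcne (by
    calc c = g * z * g⁻¹ := hg.symm
      _ = g * c₀ * g⁻¹ := by rw [e]
      _ = z := by rw [hc₀]; group)
  have hside : ∀ e ∈ E, Commute e c → e * e = z → Side E z c₀ (g⁻¹ * e * g) := by
    intro e he hec hee
    have hyz : Commute (g⁻¹ * e * g) z := commute_conj_iff.2 (hg ▸ hec)
    have hyc : Commute (g⁻¹ * e * g) c₀ := by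
      have := (V.comm_z he).map (MulAut.conj g⁻¹).toMonoidHom
      simpa [hc₀] using this
    refine ⟨hyz, hyc, fun hy => ?_, fun d hd hdc => ?_⟩
    · have h1 : g⁻¹ * e * g * (g⁻¹ * e * g) = c₀ := by
        rw [hc₀, show g⁻¹ * e * g * (g⁻¹ * e * g) = g⁻¹ * (e * e) * g by group, hee]
      rcases V.x2.sq _ hy with e' | e' <;> rw [h1] at e'
      exacts [hc₀1 e', hc₀z e']
    set w := d⁻¹ * (g⁻¹ * e * g * d * (g⁻¹ * e * g)⁻¹) with hw
    have hwE : w ∈ E := E.mul_mem (E.inv_mem hd) (V.conjE hyz hd)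
    have hgd : Commute (g * d * g⁻¹) z := by
      have := hdc.map (MulAut.conj g).toMonoidHom
      simpa [hc₀, mul_assoc] using this
    have hwg : g * w * g⁻¹ ∈ E := by
      rw [show g * w * g⁻¹ = ((g * d * g⁻¹)⁻¹ * e * (g * d * g⁻¹)⁻¹⁻¹) * e⁻¹ by rw [hw]; group]
      exact E.mul_mem (V.conjE hgd.inv_left he) (E.inv_mem he)
    have hwc : Commute w c₀ := by
      have := (V.comm_z hwg).map (MulAut.conj g⁻¹).toMonoidHom
      simpa [hc₀, mul_assoc] using this
    have hww : w * w = 1 := by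
      refine (V.x2.sq w hwE).resolve_right fun e1 => ?_
      have e2 : g * w * g⁻¹ * (g * w * g⁻¹) = g * z * g⁻¹ := by
        rw [show g * w * g⁻¹ * (g * w * g⁻¹) = g * (w * w) * g⁻¹ by group, e1]
      rw [hg] at e2
      rcases V.x2.sq _ hwg with e3 | e3 <;> rw [e2] at e3
      exacts [hc1 e3, hcne e3]
    exact Q.four hc₀E hwE hc₀s hww hc₀1 hc₀z hwc
  obtain ⟨k, hkz, hk⟩ := Q.exists_move hmax hc₀E hc₀s hc₀1 hc₀z (hside f hf hfc hff)
  obtain ⟨i, j, Q'⟩ := Q.rebase hc₀E (V.conjE hkz hc₀E) hc₀s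
    (by rw [show k * c₀ * k⁻¹ * (k * c₀ * k⁻¹) = k * (c₀ * c₀) * k⁻¹ by group, hc₀s, mul_one, mul_inv_cancel])
    (fun e => hk e.symm)
  have hmove : ∀ y, Side E z c₀ y → Side E z (k * c₀ * k⁻¹) (k * y * k⁻¹) := by
    intro y S
    refine ⟨((hkz.mul_left S.yz).mul_left hkz.inv_left), S.yc.map (MulAut.conj k).toMonoidHom,
      fun hy => S.out ?_, fun e he hec => ?_⟩
    · have := V.conjE hkz.inv_left hy
      simpa [mul_assoc] using this
    · have hec' : Commute (k⁻¹ * e * k) c₀ := commute_conj_iff.2 hec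
      have he' : k⁻¹ * e * k ∈ E := by simpa using V.conjE hkz.inv_left he
      have hz' : k * z * k⁻¹ = z := conj_fix hkz
      have e1 : e⁻¹ * (k * y * k⁻¹ * e * (k * y * k⁻¹)⁻¹) =
          k * ((k⁻¹ * e * k)⁻¹ * (y * (k⁻¹ * e * k) * y⁻¹)) * k⁻¹ := by group
      rw [e1]
      rcases S.comm _ he' hec' with e' | e' | e' | e' <;> rw [e']
      · left; group
      · right; left; exact hz'
      · right; right; left; rfl
      · right; right; right
        rw [show k * (z * c₀) * k⁻¹ = k * z * k⁻¹ * (k * c₀ * k⁻¹) by group, hz']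
  have heq : ∀ e₁ ∈ E, Commute e₁ c → e₁ * e₁ = z → ∀ e₂ ∈ E, Commute e₂ c → e₂ * e₂ = z →
      tw χ z c e₁ = tw χ z c e₂ := by
    intro e₁ he₁ h1c h1s e₂ he₂ h2c h2s
    rw [← L.tw_rep hg h1c, ← L.tw_rep hg h2c,
      Q'.pair_kill L hE (hside e₁ he₁ h1c h1s) (hmove _ (hside e₂ he₂ h2c h2s)),
      L.conj hkz (hside e₂ he₂ h2c h2s).yz]
  have hprod : f * b * (f * b) = z := by
    rw [(V.sq_mul hf hb).2 hfb, hff, hbb, V.x2.zz, mul_one]
  have e1 := heq f hf hfc hff b hb hbc hbb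
  have e2 := heq f hf hfc hff (f * b) (E.mul_mem hf hb) (hfc.mul_left hbc) hprod
  rw [L.tw_add hcj hfc hbc, ← e1, z2_add_self, huf] at e2
  exact hu e2

end Cfsg.Lib.LargeTransfer
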