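import Cfsg.Agent.InvolCalc.LargeTransfer.Setup

/-!
The contribution of an orbit of the extraspecial subgroup on the conjugates.
-/

set_option autoImplicit false
set_option linter.unusedSectionVars false
set_option linter.style.haveILetI false

namespace Cfsg.Lib.LargeTransfer

open Subgroup

variable {G : Type*} [Group G] [Fintype G] [DecidableEq G]

open Classical in
/-- The `E`-conjugates of `c`. -/
noncomputable def orb (E : Subgroup G) (c : G) : Finset G :=
  (Finset.univ.filter (· ∈ E)).image fun e => e * c * e⁻¹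

open Classical in
/-- Those fixed by `x`. -/
noncomputable def pts (E : Subgroup G) (x c : G) : Finset G := (orb E c).filter (Commute x)

theorem mem_orb {E : Subgroup G} {c q : G} : q ∈ orb E c ↔ ∃ e ∈ E, e * c * e⁻¹ = q := by
  simp [orb]

theorem mem_pts {E : Subgroup G} {x c q : G} : q ∈ pts E x c ↔ q ∈ orb E c ∧ Commute x q := by
  simp [pts]

theorem self_mem_orb (E : Subgroup G) (c : G) : c ∈ orb E c := mem_orb.2 ⟨1, E.one_mem, by group⟩

theorem orb_eq {E : Subgroup G} {c q : G} (h : q ∈ orb E c) : orb E q = orb E c := by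
  obtain ⟨e, he, rfl⟩ := mem_orb.1 h
  ext w
  simp only [mem_orb]
  constructor
  · rintro ⟨a, ha, rfl⟩
    exact ⟨a * e, E.mul_mem ha he, by group⟩
  · rintro ⟨a, ha, rfl⟩
    exact ⟨a * e⁻¹, E.mul_mem ha (E.inv_mem he), by group⟩

theorem conj_eq_iff {a b c : G} : a * c * a⁻¹ = b * c * b⁻¹ ↔ Commute (a⁻¹ * b) c := by
  rw [← conj_fix_iff]
  constructor
  · intro h
    calc a⁻¹ * b * c * (a⁻¹ * b)⁻¹ = a⁻¹ * (b * c * b⁻¹) * a := by group
      _ = a⁻¹ * (a * c * a⁻¹) * a := by rw [h]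
      _ = c := by group
  · intro h
    calc a * c * a⁻¹ = a * (a⁻¹ * b * c * (a⁻¹ * b)⁻¹) * a⁻¹ := by rw [h]
      _ = _ := by group

open Classical in
theorem card_img (S : Subgroup G) (c : G) :
    ((Finset.univ.filter (· ∈ S)).image fun e => e * c * e⁻¹).card *
      ((Finset.univ.filter (· ∈ S)).filter fun e => Commute e c).card = Nat.card S := by
  set A := Finset.univ.filter (· ∈ S) with hA
  have hcard : Nat.card S = A.card := by
    rw [hA, Nat.card_eq_fintype_card, Fintype.card_subtype]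
  rw [hcard, Finset.card_eq_sum_card_image (fun e => e * c * e⁻¹) A, eq_comm, ← smul_eq_mul]
  refine Finset.sum_eq_card_nsmul fun q hq => ?_
  obtain ⟨a, ha, rfl⟩ := Finset.mem_image.1 hq
  simp only [hA, Finset.mem_filter, Finset.mem_univ, true_and] at ha
  refine Finset.card_bij' (fun e _ => a⁻¹ * e) (fun f _ => a * f) ?_ ?_ (fun e _ => by group) (fun f _ => by group)
  · intro e he
    simp only [hA, Finset.mem_filter, Finset.mem_univ, true_and] at he ⊢
    exact ⟨S.mul_mem (S.inv_mem ha) he.1, conj_eq_iff.1 he.2.symm⟩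
  · intro f hf
    simp only [hA, Finset.mem_filter, Finset.mem_univ, true_and] at hf ⊢
    refine ⟨S.mul_mem ha hf.1, (conj_eq_iff.2 ?_).symm⟩
    rw [inv_mul_cancel_left]
    exact hf.2

/-- The setting of a fixed conjugate. -/
structure Orb (E : Subgroup G) (z : G) (χ : G → ZMod 2) (x c : G) : Prop where
  env : Env E z
  lin : Lin z χ
  xz : Commute x z
  cj : IsConj z c
  cz : Commute c z
  cne : c ≠ z
  xc : Commute x c

/-- The twisted commutator. -/
def dd (x e : G) : G := e⁻¹ * x * e * x⁻¹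

open Classical in
/-- The defect. -/
noncomputable def beta (χ : G → ZMod 2) (z c e f : G) : ZMod 2 := if Commute e f then 0 else tw χ z c z

variable {E : Subgroup G} {z : G} {χ : G → ZMod 2} {x c : G} (O : Orb E z χ x c)
include O

theorem Orb.conjE {h e : G} (hh : Commute h z) (he : e ∈ E) : h * e * h⁻¹ ∈ E :=
  (mem_normalizer_iff.1 (O.env.norm (mem_centralizer_singleton_iff.2 hh.eq)) e).1 he

theorem Orb.dd_mem {e : G} (he : e ∈ E) : dd x e ∈ E := by
  rw [dd, show e⁻¹ * x * e * x⁻¹ = e⁻¹ * (x * e * x⁻¹) by group]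
  exact E.mul_mem (E.inv_mem he) (O.conjE O.xz he)

theorem Orb.flip {e f : G} (he : e ∈ E) (hf : f ∈ E) : e⁻¹ * f * e = f ∨ e⁻¹ * f * e = z * f := by
  simpa using O.env.x2.conj_cases (E.inv_mem he) hf

theorem Orb.conjF {e f : G} (he : e ∈ E) (hf : f ∈ E) (hfc : Commute f c) : Commute (e⁻¹ * f * e) c := by
  rcases O.flip he hf with h | h <;> rw [h]
  · exact hfc
  · exact O.cz.symm.mul_left hfc

theorem Orb.of_conjF {e f : G} (he : e ∈ E) (hf : f ∈ E) (h : Commute (e⁻¹ * f * e) c) : Commute f c := by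
  rcases O.flip he hf with h' | h' <;> rw [h'] at h
  · exact h
  · have := O.cz.symm.inv_left.mul_left h
    rwa [inv_mul_cancel_left] at this

theorem Orb.sq_comm {t : G} (ht : t ∈ E) : Commute (t * t) c := by
  rcases O.env.x2.sq t ht with h | h <;> rw [h]
  · exact Commute.one_left c
  · exact O.cz.symm

theorem Orb.mem_iff {e : G} (_he : e ∈ E) : Commute x (e * c * e⁻¹) ↔ Commute (dd x e) c := by
  rw [← commute_conj_iff, dd]
  constructor
  · exact fun h => h.mul_left O.xc.inv_left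
  · intro h
    simpa using h.mul_left O.xc

theorem Orb.dd_mul (e t : G) : dd x (e * t) = t⁻¹ * dd x e * t * dd x t := by
  simp only [dd]; group

theorem Orb.twz_two : tw χ z c z + tw χ z c z = 0 := z2_add_self _

theorem Orb.tw_flip {e f : G} (he : e ∈ E) (hf : f ∈ E) (hfc : Commute f c) :
    tw χ z c (e⁻¹ * f * e) = tw χ z c f + beta χ z c e f := by
  classical
  by_cases h : Commute e f
  · rw [beta, if_pos h, add_zero, mul_assoc, ← h.eq, inv_mul_cancel_left]
  · have h1 : e⁻¹ * f * e = z * f := by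
      simpa using O.env.x2.not_commute_conj (E.inv_mem he) hf (fun h' => h (by simpa using h'.inv_left))
    rw [beta, if_neg h, h1, O.lin.tw_add O.cj O.cz.symm hfc, add_comm]

theorem Orb.beta_mul {r e f : G} (hr : r ∈ E) (he : e ∈ E) (hf : f ∈ E) :
    beta χ z c (r * e) f = beta χ z c r f + beta χ z c e f := by
  classical
  by_cases h1 : Commute r f <;> by_cases h2 : Commute e f
  · simp [beta, h1, h2, h1.mul_left h2]
  · have : ¬ Commute (r * e) f := fun h => h2 (by simpa using h1.inv_left.mul_left h)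
    simp [beta, h1, h2, this]
  · have : ¬ Commute (r * e) f := fun h => h1 (by simpa using h.mul_left h2.inv_left)
    simp [beta, h1, h2, this]
  · simp [beta, h1, h2, O.env.x2.commute_mul hr he hf h1 h2, O.twz_two]

theorem Orb.beta_central {e f : G} (he : e ∈ E) (hf : f = 1 ∨ f = z) : beta χ z c e f = 0 := by
  have : Commute e f := by
    rcases hf with rfl | rfl
    · exact Commute.one_right e
    · exact O.env.x2.central e he
  simp [beta, this]

theorem Orb.val {e : G} (he : e ∈ E) (h : Commute (dd x e) c) :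
    tw χ z (e * c * e⁻¹) x = tw χ z c (dd x e) + tw χ z c x := by
  rw [O.lin.tw_conj' e O.cj ((O.mem_iff he).2 h), ← O.lin.tw_add O.cj h O.xc]
  congr 1
  simp only [dd]; group

theorem Orb.left_mem {t e : G} (ht : t ∈ E) (he : e ∈ E) (htd : Commute (dd x t) c) (hed : Commute (dd x e) c) :
    Commute (dd x (t * e)) c := by
  rw [O.dd_mul]
  exact (O.conjF he (O.dd_mem ht) htd).mul_left hed

theorem Orb.delta {t e : G} (ht : t ∈ E) (he : e ∈ E) (htd : Commute (dd x t) c) (hed : Commute (dd x e) c) :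
    tw χ z (e * c * e⁻¹) x + tw χ z (t * (e * c * e⁻¹) * t⁻¹) x =
      tw χ z c (dd x t) + beta χ z c e (dd x t) := by
  rw [show t * (e * c * e⁻¹) * t⁻¹ = t * e * c * (t * e)⁻¹ by group, O.val he hed,
    O.val (E.mul_mem ht he) (O.left_mem ht he htd hed), O.dd_mul,
    O.lin.tw_add O.cj (O.conjF he (O.dd_mem ht) htd) hed, O.tw_flip he (O.dd_mem ht) htd]
  have := z2_add_self (tw χ z c (dd x e) + tw χ z c x)
  calc tw χ z c (dd x e) + tw χ z c x + (tw χ z c (dd x t) + beta χ z c e (dd x t) + tw χ z c (dd x e) + tw χ z c x)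
      = (tw χ z c (dd x t) + beta χ z c e (dd x t)) +
        ((tw χ z c (dd x e) + tw χ z c x) + (tw χ z c (dd x e) + tw χ z c x)) := by ring
    _ = _ := by rw [this, add_zero]

/-- A translation. -/
theorem Orb.shift {t : G} (ht : t ∈ E) (htd : Commute (dd x t) c) (htc : ¬ Commute t c) :
    ∀ q ∈ pts E x c, t * q * t⁻¹ ∈ pts E x c ∧ t * (t * q * t⁻¹) * t⁻¹ = q ∧ t * q * t⁻¹ ≠ q := by
  intro q hq
  obtain ⟨hq1, hq2⟩ := mem_pts.1 hq
  obtain ⟨e, he, rfl⟩ := mem_orb.1 hq1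
  have hed := (O.mem_iff he).1 hq2
  have e1 : t * (e * c * e⁻¹) * t⁻¹ = t * e * c * (t * e)⁻¹ := by group
  refine ⟨?_, ?_, ?_⟩
  · rw [e1]
    exact mem_pts.2 ⟨mem_orb.2 ⟨_, E.mul_mem ht he, rfl⟩,
      (O.mem_iff (E.mul_mem ht he)).2 (O.left_mem ht he htd hed)⟩
  · rw [show t * (t * (e * c * e⁻¹) * t⁻¹) * t⁻¹ = t * t * e * c * (t * t * e)⁻¹ by group]
    refine (conj_eq_iff.2 ?_).symm
    rw [show e⁻¹ * (t * t * e) = e⁻¹ * (t * t) * e by group]
    exact O.conjF he (E.mul_mem ht ht) (O.sq_comm ht)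
  · rw [e1, ne_eq, eq_comm, conj_eq_iff, show e⁻¹ * (t * e) = e⁻¹ * t * e by group]
    exact fun h => htc (O.of_conjF he ht h)

/-- The elements preserving the fixed points. -/
def Orb.D : Subgroup G where
  carrier := {e | e ∈ E ∧ Commute (dd x e) c}
  one_mem' := ⟨E.one_mem, by simp [dd]⟩
  mul_mem' := fun ha hb => ⟨E.mul_mem ha.1 hb.1, O.left_mem ha.1 hb.1 ha.2 hb.2⟩
  inv_mem' := fun {a} ha => ⟨E.inv_mem ha.1, by
    have h := O.conjF (E.inv_mem ha.1) (E.inv_mem (O.dd_mem ha.1)) ha.2.inv_left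
    convert h using 1
    simp only [dd]; group⟩

theorem Orb.mem_D {e : G} : e ∈ O.D ↔ e ∈ E ∧ Commute (dd x e) c := Iff.rfl

theorem Orb.pts_eq [DecidablePred (· ∈ O.D)] :
    pts E x c = (Finset.univ.filter (· ∈ O.D)).image fun e => e * c * e⁻¹ := by
  ext q
  simp only [mem_pts, mem_orb, Finset.mem_image, Finset.mem_filter, Finset.mem_univ, true_and]
  constructor
  · rintro ⟨⟨e, he, rfl⟩, hq⟩
    exact ⟨e, ⟨he, (O.mem_iff he).1 hq⟩, rfl⟩
  · rintro ⟨e, ⟨he, hed⟩, rfl⟩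
    exact ⟨⟨e, he, rfl⟩, (O.mem_iff he).2 hed⟩

theorem Orb.orb_pow : ∃ i, (orb E c).card = 2 ^ i := by
  classical
  obtain ⟨k, hk⟩ := O.env.x2.isP.exists_card_eq
  have h : (orb E c).card * _ = Nat.card E := card_img E c
  obtain ⟨i, -, hi⟩ := (Nat.dvd_prime_pow Nat.prime_two).1 (hk ▸ Dvd.intro _ h)
  exact ⟨i, hi⟩

theorem Orb.pts_pow : ∃ i, (pts E x c).card = 2 ^ i := by
  classical
  obtain ⟨k, hk⟩ := (O.env.x2.isP.to_le (show O.D ≤ E from fun e he => (O.mem_D.1 he).1)).exists_card_eq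
  rw [O.pts_eq]
  obtain ⟨i, -, hi⟩ := (Nat.dvd_prime_pow Nat.prime_two).1 (hk ▸ Dvd.intro _ (card_img O.D c))
  exact ⟨i, hi⟩

theorem Orb.exists_noncomm : ∃ e ∈ E, ¬ Commute e c := by
  by_contra! h
  have hc : c ∈ E := O.env.cen (mem_centralizer_iff.2 fun e he => h e he)
  rcases O.env.x2.cen c hc h with rfl | rfl
  · obtain ⟨g, hg⟩ := isConj_iff.1 O.cj
    exact O.env.x2.ne (conj_eq_one_iff.1 hg)
  · exact O.cne rfl

theorem Orb.two_le_orb : 2 ≤ (orb E c).card := by
  obtain ⟨e, he, hec⟩ := O.exists_noncomm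
  exact Finset.one_lt_card.2 ⟨c, self_mem_orb E c, e * c * e⁻¹, mem_orb.2 ⟨e, he, rfl⟩,
    fun h => hec (conj_fix_iff.1 h.symm)⟩

theorem Orb.self_mem : c ∈ pts E x c := mem_pts.2 ⟨self_mem_orb E c, O.xc⟩

theorem Orb.pts_all (h : ∀ e ∈ E, Commute (dd x e) c) : pts E x c = orb E c := by
  ext q
  rw [mem_pts]
  refine ⟨And.left, fun hq => ⟨hq, ?_⟩⟩
  obtain ⟨e, he, rfl⟩ := mem_orb.1 hq
  exact (O.mem_iff he).2 (h e he)

theorem Orb.pts_four (h : 4 ≤ (pts E x c).card) : 4 ∣ (pts E x c).card := by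
  obtain ⟨i, hi⟩ := O.pts_pow
  rw [hi] at h ⊢
  have h3 : 2 ≤ i → (4 : ℕ) ∣ 2 ^ i := fun h' => Nat.pow_dvd_pow 2 h'
  refine h3 ?_
  by_contra h2
  interval_cases i <;> simp at h

theorem Orb.pts_eight (h : 8 ≤ (pts E x c).card) : 8 ∣ (pts E x c).card := by
  obtain ⟨i, hi⟩ := O.pts_pow
  rw [hi] at h ⊢
  have h3 : 3 ≤ i → (8 : ℕ) ∣ 2 ^ i := fun h' => Nat.pow_dvd_pow 2 h'
  refine h3 ?_
  by_contra h2
  interval_cases i <;> simp at h

/-- A point off `D` moved into `D` by `x`. -/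
theorem Orb.exists_step {m : ℕ} (hm : x ^ 2 ^ m = 1) (h : ∃ e ∈ E, ¬ Commute (dd x e) c) :
    ∃ v ∈ E, ¬ Commute (dd x v) c ∧ Commute (dd x (dd x v)) c := by
  classical
  set K := zpowers x
  have hK : IsPGroup 2 K := fun k => ⟨m, by
    obtain ⟨i, hi⟩ := mem_zpowers_iff.1 k.2
    refine Subtype.ext ?_
    show (k : G) ^ 2 ^ m = 1
    rw [← hi, ← zpow_natCast (x ^ i), ← zpow_mul, mul_comm, zpow_mul, zpow_natCast, hm, one_zpow]⟩
  have hKE : K ≤ normalizer (E : Set G) :=
    zpowers_le.2 (O.env.norm (mem_centralizer_singleton_iff.2 O.xz.eq))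
  have hKD : K ≤ normalizer (O.D : Set G) := by
    refine zpowers_le.2 (mem_normalizer_iff.2 fun e => ?_)
    have key : ∀ y : G, Commute y x → Commute y z → Commute y c → ∀ e ∈ O.D, y * e * y⁻¹ ∈ O.D := by
      intro y yx yz yc e he
      obtain ⟨he1, he2⟩ := O.mem_D.1 he
      refine O.mem_D.2 ⟨O.conjE yz he1, ?_⟩
      have hd : dd x (y * e * y⁻¹) = y * dd x e * y⁻¹ := by
        have e1 : y⁻¹ * x * y = x := by rw [mul_assoc, ← yx.eq, inv_mul_cancel_left]
        calc dd x (y * e * y⁻¹) = y * e⁻¹ * (y⁻¹ * x * y) * e * (y⁻¹ * x⁻¹ * y) * y⁻¹ := by simp only [dd]; group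
          _ = y * e⁻¹ * (y⁻¹ * x * y) * e * (y⁻¹ * x * y)⁻¹ * y⁻¹ := by group
          _ = _ := by rw [e1]; simp only [dd]; group
      rw [hd]
      exact (yc.mul_left he2).mul_left yc.inv_left
    refine ⟨key x (Commute.refl x) O.xz O.xc e, fun h => ?_⟩
    have := key x⁻¹ (Commute.refl x).inv_left O.xz.inv_left O.xc.inv_left _ h
    simpa [mul_assoc] using this
  set X := E ⊔ K
  set Y := O.D ⊔ K
  have hX : IsPGroup 2 X := by
    rw [show X = K ⊔ E from sup_comm E K]
    exact hK.to_sup_of_normal_right' O.env.x2.isP hKE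
  have hxK : ∀ k ∈ K, k ∈ E → k ∈ O.D := by
    intro k hk hkE
    refine O.mem_D.2 ⟨hkE, ?_⟩
    obtain ⟨i, rfl⟩ := mem_zpowers_iff.1 hk
    have : dd x (x ^ i) = 1 := by simp only [dd]; group
    rw [this]
    exact Commute.one_left c
  have hYE : ∀ w ∈ Y, w ∈ E → w ∈ O.D := by
    intro w hw hwE
    rw [show Y = O.D ⊔ K from rfl, ← SetLike.mem_coe,
      Subgroup.coe_mul_of_right_le_normalizer_left O.D K hKD] at hw
    obtain ⟨d, hd, k, hk, rfl⟩ := Set.mem_mul.1 hw
    refine O.D.mul_mem hd (hxK k hk ?_)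
    have := E.mul_mem (E.inv_mem (O.mem_D.1 hd).1) hwE
    rwa [inv_mul_cancel_left] at this
  have hne : Y < X := by
    refine lt_of_le_of_ne (sup_le_sup_right (fun e he => (O.mem_D.1 he).1) K) fun hYX => ?_
    obtain ⟨e, he, hec⟩ := h
    exact hec (O.mem_D.1 (hYE e (hYX ▸ mem_sup_left he) he)).2
  haveI : Finite X := inferInstance
  haveI : Group.IsNilpotent X := hX.isNilpotent
  have hlt : Y.subgroupOf X < ⊤ := by
    refine lt_top_iff_ne_top.2 fun e => hne.ne (le_antisymm hne.le fun w hw => ?_)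
    exact mem_subgroupOf.1 (e ▸ Subgroup.mem_top (⟨w, hw⟩ : X))
  obtain ⟨n, hn1, hn2⟩ := SetLike.exists_of_lt (Group.normalizerCondition_of_isNilpotent (G := X) _ hlt)
  have hxY : x ∈ Y := mem_sup_right (mem_zpowers x)
  have hnX : (n : G) ∈ (E ⊔ K : Subgroup G) := n.2
  rw [← SetLike.mem_coe, Subgroup.coe_mul_of_right_le_normalizer_left E K hKE] at hnX
  obtain ⟨v, hv, k, hk, hvk⟩ := Set.mem_mul.1 hnX
  have hkY : k ∈ Y := mem_sup_right hk
  have hvD : v ∉ O.D := fun hvD => hn2 (mem_subgroupOf.2 (hvk ▸ Y.mul_mem (mem_sup_left hvD) hkY))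
  have h1 : (n : G)⁻¹ * x * n ∈ Y := by
    have := (mem_normalizer_iff''.1 hn1 ⟨x, hne.le hxY⟩).1 (mem_subgroupOf.2 hxY)
    simpa [mem_subgroupOf] using this
  have h2 : v⁻¹ * x * v ∈ Y := by
    have := Y.mul_mem (Y.mul_mem hkY h1) (Y.inv_mem hkY)
    rw [← hvk] at this
    convert this using 1
    group
  refine ⟨v, hv, fun h => hvD (O.mem_D.2 ⟨hv, h⟩), (O.mem_D.1 (hYE _ ?_ (O.dd_mem hv))).2⟩
  exact Y.mul_mem h2 (Y.inv_mem hxY)

theorem Orb.dd_dd (v : G) : dd x v * (x * dd x v * x⁻¹) = v⁻¹ * (x * x) * v * (x * x)⁻¹ := by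
  simp only [dd]; group

theorem Orb.dd_dd' (v : G) :
    dd x (dd x v) = (dd x v * dd x v)⁻¹ * (v⁻¹ * (x * x) * v * (x * x)⁻¹) := by
  rw [← O.dd_dd v]
  simp only [dd]; group

/-- Orbits with at least four points, when the twisted value of `z` vanishes. -/
theorem Orb.sum_small {m : ℕ} (hm : x ^ 2 ^ m = 1) (hz : tw χ z c z = 0)
    (hlow : ∀ g : G, Commute (g⁻¹ * (x * x) * g) z → χ (g⁻¹ * (x * x) * g) = 0)
    (h4 : (orb E c).card ≠ 2) : ∑ q ∈ pts E x c, tw χ z q x = 0 := by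
  classical
  have hb : ∀ e f : G, beta χ z c e f = 0 := fun e f => by simp [beta, hz]
  have hd : ∀ t ∈ E, Commute (dd x t) c → ∀ q ∈ pts E x c,
      tw χ z q x + tw χ z (t * q * t⁻¹) x = tw χ z c (dd x t) := by
    intro t ht htd q hq
    obtain ⟨hq1, hq2⟩ := mem_pts.1 hq
    obtain ⟨e, he, rfl⟩ := mem_orb.1 hq1
    rw [O.delta ht he htd ((O.mem_iff he).1 hq2), hb, add_zero]
  by_cases hall : ∀ e ∈ E, Commute (dd x e) c
  · obtain ⟨t, ht, htc⟩ := O.exists_noncomm
    refine pair_sum_zero _ _ (O.shift ht (hall t ht) htc) _ _ (hd t ht (hall t ht)) (O.pts_four ?_)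
    rw [O.pts_all hall]
    obtain ⟨i, hi⟩ := O.orb_pow
    have := O.two_le_orb
    rcases i with - | - | i <;> simp only [hi, pow_succ, pow_zero] at * <;> omega
  push Not at hall
  obtain ⟨v, hv, hv1, hv2⟩ := O.exists_step hm hall
  set d := dd x v with hd'
  have hdE : d ∈ E := O.dd_mem hv
  have hsh := O.shift hdE hv2 hv1
  rw [pair_sum _ _ hsh _ _ (hd d hdE hv2)]
  suffices tw χ z c (dd x d) = 0 by rw [this, smul_zero]
  rw [hd', O.dd_dd', ← hd']
  have hg : Commute (v⁻¹ * (x * x) * v * (x * x)⁻¹) c := by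
    have := (O.sq_comm hdE).mul_left hv2
    rw [hd', O.dd_dd' v, ← hd', mul_inv_cancel_left] at this
    exact this
  have hxx : Commute (x * x) c := O.xc.mul_left O.xc
  have hvx : Commute (v⁻¹ * (x * x) * v) c := by
    have := hg.mul_left hxx
    rwa [inv_mul_cancel_right] at this
  rw [O.lin.tw_add O.cj (O.sq_comm hdE).inv_left hg, O.lin.tw_inv O.cj (O.sq_comm hdE),
    O.lin.tw_add O.cj hvx hxx.inv_left, O.lin.tw_inv O.cj hxx, O.lin.tw_add O.cj O.xc O.xc,
    z2_add_self, add_zero]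
  have h1 : tw χ z c (d * d) = 0 := by
    rcases O.env.x2.sq d hdE with h | h <;> rw [h]
    · exact O.lin.tw_one
    · exact hz
  rw [h1, zero_add, tw, show (rep z c)⁻¹ * (v⁻¹ * (x * x) * v) * rep z c =
    (v * rep z c)⁻¹ * (x * x) * (v * rep z c) by group]
  refine hlow _ ?_
  rw [show (v * rep z c)⁻¹ * (x * x) * (v * rep z c) = (rep z c)⁻¹ * (v⁻¹ * (x * x) * v) * rep z c by group]
  exact comm_rep O.cj hvx

/-- Orbits with at least eight points, for an involution. -/
theorem Orb.sum_large (hxx : x * x = 1) (h8 : 8 ≤ (orb E c).card) :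
    ∑ q ∈ pts E x c, tw χ z q x = 0 := by
  classical
  by_cases hall : ∀ e ∈ E, Commute (dd x e) c
  · obtain ⟨t, ht, htc⟩ := O.exists_noncomm
    obtain ⟨q, hq, hq'⟩ : ∃ q ∈ orb E c, q ∉ ({c, t * c * t⁻¹} : Finset G) := by
      refine Finset.exists_mem_notMem_of_card_lt_card ?_
      have := Finset.card_le_two (a := c) (b := t * c * t⁻¹)
      omega
    obtain ⟨r, hr, rfl⟩ := mem_orb.1 hq
    simp only [Finset.mem_insert, Finset.mem_singleton, not_or] at hq'
    have hrc : ¬ Commute r c := fun h => hq'.1 (conj_fix h)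
    have hrt : ¬ Commute (t⁻¹ * r) c := fun h => hq'.2 (conj_eq_iff.2 h).symm
    refine quad_sum_zero _ _ (fun q => r * q * r⁻¹) (O.shift ht (hall t ht) htc) ?_ _ (beta χ z c r (dd x t)) ?_
      (O.pts_eight (by rw [O.pts_all hall]; exact h8))
    · intro q hq
      obtain ⟨a1, a2, a3⟩ := O.shift hr (hall r hr) hrc q hq
      obtain ⟨e, he, rfl⟩ := mem_orb.1 (mem_pts.1 hq).1
      refine ⟨a1, a2, a3, ?_, ?_⟩
      · rw [show r * (e * c * e⁻¹) * r⁻¹ = r * e * c * (r * e)⁻¹ by group,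
          show t * (e * c * e⁻¹) * t⁻¹ = t * e * c * (t * e)⁻¹ by group, ne_eq, eq_comm, conj_eq_iff,
          show (t * e)⁻¹ * (r * e) = e⁻¹ * (t⁻¹ * r) * e by group]
        exact fun h => hrt (O.of_conjF he (E.mul_mem (E.inv_mem ht) hr) h)
      · rw [show r * (t * (e * c * e⁻¹) * t⁻¹) * r⁻¹ = r * t * e * c * (r * t * e)⁻¹ by group,
          show t * (r * (e * c * e⁻¹) * r⁻¹) * t⁻¹ = t * r * e * c * (t * r * e)⁻¹ by group, conj_eq_iff,
          show (r * t * e)⁻¹ * (t * r * e) = e⁻¹ * ((r * t)⁻¹ * (t * r)) * e by group]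
        refine O.conjF he (E.mul_mem (E.inv_mem (E.mul_mem hr ht)) (E.mul_mem ht hr)) ?_
        have e2 : (r * t)⁻¹ * (t * r) = t⁻¹ * (r⁻¹ * t * r) := by group
        rw [e2]
        rcases O.flip hr ht with h | h <;> rw [h]
        · simp
        · rw [← mul_assoc, ((O.env.x2.central t ht).inv_left).eq, inv_mul_cancel_right]
          exact O.cz.symm
    · intro q hq
      obtain ⟨e, he, rfl⟩ := mem_orb.1 (mem_pts.1 hq).1
      rw [O.delta ht he (hall t ht) (hall e he),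
        show r * (e * c * e⁻¹) * r⁻¹ = r * e * c * (r * e)⁻¹ by group,
        O.delta ht (E.mul_mem hr he) (hall t ht) (hall _ (E.mul_mem hr he)), O.beta_mul hr he (O.dd_mem ht)]
      have e3 := z2_add_self (tw χ z c (dd x t))
      have e4 := z2_add_self (beta χ z c e (dd x t))
      calc tw χ z c (dd x t) + beta χ z c e (dd x t) +
            (tw χ z c (dd x t) + (beta χ z c r (dd x t) + beta χ z c e (dd x t)))
          = (tw χ z c (dd x t) + tw χ z c (dd x t)) + (beta χ z c e (dd x t) + beta χ z c e (dd x t)) +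
            beta χ z c r (dd x t) := by ring
        _ = _ := by rw [e3, e4, zero_add, zero_add]
  push Not at hall
  obtain ⟨v, hv, hv1⟩ := hall
  have hcent : ∀ w ∈ E, dd x (dd x w) = 1 ∨ dd x (dd x w) = z := by
    intro w hw
    rw [O.dd_dd', hxx]
    rcases O.env.x2.sq _ (O.dd_mem hw) with h | h <;> rw [h] <;> simp [O.env.x2.inv_z]
  have hdc : ∀ w ∈ E, Commute (dd x (dd x w)) c := fun w hw => by
    rcases hcent w hw with h | h <;> rw [h]
    · exact Commute.one_left c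
    · exact O.cz.symm
  refine pair_sum_zero _ _ (O.shift (O.dd_mem hv) (hdc v hv) hv1) _ (tw χ z c (dd x (dd x v))) ?_
    (O.pts_four ?_)
  · intro q hq
    obtain ⟨e, he, rfl⟩ := mem_orb.1 (mem_pts.1 hq).1
    rw [O.delta (O.dd_mem hv) he (hdc v hv) ((O.mem_iff he).1 (mem_pts.1 hq).2),
      O.beta_central he (hcent v hv), add_zero]
  by_contra hlt
  obtain ⟨i, hi⟩ := O.pts_pow
  have h2 : (pts E x c).card ≤ 2 := by
    rw [hi] at hlt ⊢
    rcases i with - | - | i <;> simp [pow_succ] at hlt ⊢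
    omega
  -- the map sending a point to its step
  have hpre : ∀ q ∈ orb E c, ∃ w ∈ E, w * c * w⁻¹ = q := fun q hq => mem_orb.1 hq
  let ψ : G → G := fun q => if h : q ∈ orb E c then
    dd x (hpre q h).choose * c * (dd x (hpre q h).choose)⁻¹ else 1
  have hψ : ∀ q ∈ orb E c, ψ q ∈ pts E x c := by
    intro q hq
    simp only [ψ, dif_pos hq]
    have hw := (hpre q hq).choose_spec.1
    exact mem_pts.2 ⟨mem_orb.2 ⟨_, O.dd_mem hw, rfl⟩, (O.mem_iff (O.dd_mem hw)).2 (hdc _ hw)⟩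
  have hfib : ∀ p ∈ (orb E c).image ψ, ((orb E c).filter fun q => ψ q = p).card ≤ (pts E x c).card := by
    intro p hp
    obtain ⟨q₀, hq₀, rfl⟩ := Finset.mem_image.1 hp
    obtain ⟨hw₀, hw₀'⟩ := (hpre q₀ hq₀).choose_spec
    set w₀ := (hpre q₀ hq₀).choose with hw0
    refine (Finset.card_le_card (fun q hq => ?_)).trans (Finset.card_image_le (f := fun s => w₀ * s * w₀⁻¹))
    rw [Finset.mem_filter] at hq
    obtain ⟨hw, hw'⟩ := (hpre q hq.1).choose_spec
    set w := (hpre q hq.1).choose with hwdef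
    have e := hq.2
    simp only [ψ, dif_pos hq.1, dif_pos hq₀, ← hw0, ← hwdef] at e
    have h3 : Commute ((dd x w₀)⁻¹ * dd x w) c := conj_eq_iff.1 e.symm
    set s := w₀⁻¹ * w with hs
    have hsE : s ∈ E := E.mul_mem (E.inv_mem hw₀) hw
    have h4 : dd x w = s⁻¹ * dd x w₀ * s * dd x s := by rw [← O.dd_mul, hs, mul_inv_cancel_left]
    have h5 : Commute (dd x s) c := by
      rw [h4] at h3
      rcases O.flip hsE (O.dd_mem hw₀) with h | h <;> rw [h] at h3
      · rwa [inv_mul_cancel_left] at h3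
      · rw [(O.env.x2.central _ (O.dd_mem hw₀)).symm.eq, mul_assoc, inv_mul_cancel_left] at h3
        have := O.cz.symm.inv_left.mul_left h3
        rwa [inv_mul_cancel_left] at this
    refine Finset.mem_image.2 ⟨s * c * s⁻¹, mem_pts.2 ⟨mem_orb.2 ⟨s, hsE, rfl⟩, (O.mem_iff hsE).2 h5⟩, ?_⟩
    rw [← hw', hs]
    group
  have h6 := Finset.card_le_mul_card_image (f := ψ) (orb E c) (pts E x c).card hfib
  have h7 : ((orb E c).image ψ).card ≤ (pts E x c).card :=
    Finset.card_le_card fun p hp => by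
      obtain ⟨q, hq, rfl⟩ := Finset.mem_image.1 hp
      exact hψ q hq
  have h8' : (pts E x c).card * ((orb E c).image ψ).card ≤ 2 * 2 := Nat.mul_le_mul h2 (h7.trans h2)
  omega

/-- Orbits of two points. -/
theorem Orb.sum_two (h2 : (orb E c).card = 2) (hF : ∀ f ∈ E, Commute f c → tw χ z c f = 0) :
    ∑ q ∈ pts E x c, tw χ z q x = 0 := by
  classical
  obtain ⟨t, ht, htc⟩ := O.exists_noncomm
  have horb : orb E c = {c, t * c * t⁻¹} := by
    refine (Finset.eq_of_subset_of_card_le ?_ ?_).symm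
    · intro q hq
      simp only [Finset.mem_insert, Finset.mem_singleton] at hq
      rcases hq with rfl | rfl
      exacts [self_mem_orb E _, mem_orb.2 ⟨t, ht, rfl⟩]
    · rw [h2, Finset.card_pair fun h => htc (conj_fix_iff.1 h.symm)]
  have hprod : ∀ a ∈ E, ∀ b ∈ E, ¬ Commute a c → ¬ Commute b c → Commute (a⁻¹ * b) c := by
    intro a ha b hb hac hbc
    refine conj_eq_iff.1 ?_
    have m : ∀ a ∈ E, ¬ Commute a c → a * c * a⁻¹ = t * c * t⁻¹ := by
      intro a ha hac
      have : a * c * a⁻¹ ∈ orb E c := mem_orb.2 ⟨a, ha, rfl⟩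
      rw [horb, Finset.mem_insert, Finset.mem_singleton] at this
      exact this.resolve_left fun h => hac (conj_fix_iff.1 h)
    rw [m a ha hac, m b hb hbc]
  have hall : ∀ e ∈ E, Commute (dd x e) c := by
    intro e he
    have hd : dd x e = e⁻¹ * (x * e * x⁻¹) := by simp only [dd]; group
    rw [hd]
    by_cases hec : Commute e c
    · exact hec.inv_left.mul_left ((O.xc.mul_left hec).mul_left O.xc.inv_left)
    · refine hprod e he _ (O.conjE O.xz he) hec fun h => hec ?_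
      have := (O.xc.inv_left.mul_left h).mul_left O.xc
      simpa [mul_assoc] using this
  rw [pair_sum _ _ (O.shift ht (hall t ht) htc) _ 0 ?_, smul_zero]
  intro q hq
  obtain ⟨e, he, rfl⟩ := mem_orb.1 (mem_pts.1 hq).1
  rw [O.delta ht he (hall t ht) (hall e he), hF _ (O.dd_mem ht) (hall t ht)]
  simp [beta, hF z O.env.x2.mem O.cz.symm]

end Cfsg.Lib.LargeTransfer
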