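import Mathlib

/-!
Sums over sets carrying fixed-point-free involutions, modulo two.
-/

set_option autoImplicit false
set_option linter.unusedSectionVars false

namespace Cfsg.Lib.LargeTransfer

variable {α : Type*} [DecidableEq α]

theorem z2_add_self (a : ZMod 2) : a + a = 0 := by revert a; decide

theorem pair_sum (P : Finset α) (σ : α → α) (hσ : ∀ a ∈ P, σ a ∈ P ∧ σ (σ a) = a ∧ σ a ≠ a)
    (f : α → ZMod 2) (δ : ZMod 2) (hδ : ∀ a ∈ P, f a + f (σ a) = δ) :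
    ∑ a ∈ P, f a = (P.card / 2) • δ := by
  induction P using Finset.strongInduction with
  | _ P ih =>
    rcases P.eq_empty_or_nonempty with rfl | ⟨a, ha⟩
    · simp
    obtain ⟨h1, h2, h3⟩ := hσ a ha
    have hb : σ a ∈ P.erase a := Finset.mem_erase.2 ⟨h3, h1⟩
    have hR : ∀ b ∈ (P.erase a).erase (σ a), σ b ∈ (P.erase a).erase (σ a) ∧ σ (σ b) = b ∧ σ b ≠ b := by
      intro b hb'
      simp only [Finset.mem_erase] at hb' ⊢
      obtain ⟨k1, k2, k3⟩ := hσ b hb'.2.2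
      refine ⟨⟨fun e => hb'.2.1 ?_, fun e => hb'.1 ?_, k1⟩, k2, k3⟩
      · rw [← k2, e, h2]
      · rw [← k2, e]
    have hss : (P.erase a).erase (σ a) ⊂ P :=
      (Finset.erase_subset _ _).trans_ssubset (Finset.erase_ssubset ha)
    rw [← Finset.add_sum_erase P f ha, ← Finset.add_sum_erase _ f hb,
      ih _ hss hR (fun b hb' => hδ b (Finset.mem_of_mem_erase (Finset.mem_of_mem_erase hb'))), ← add_assoc,
      hδ a ha, Finset.card_erase_of_mem hb, Finset.card_erase_of_mem ha]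
    have h2' : 2 ≤ P.card := by
      have := Finset.card_pos.2 ⟨_, hb⟩
      rw [Finset.card_erase_of_mem ha] at this
      omega
    rw [show P.card / 2 = (P.card - 1 - 1) / 2 + 1 by omega, add_smul, one_smul, add_comm]

theorem pair_sum_zero (P : Finset α) (σ : α → α) (hσ : ∀ a ∈ P, σ a ∈ P ∧ σ (σ a) = a ∧ σ a ≠ a)
    (f : α → ZMod 2) (δ : ZMod 2) (hδ : ∀ a ∈ P, f a + f (σ a) = δ) (h4 : 4 ∣ P.card) :
    ∑ a ∈ P, f a = 0 := by
  rw [pair_sum P σ hσ f δ hδ]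
  obtain ⟨k, hk⟩ := h4
  rw [hk, show 4 * k / 2 = k + k by omega, add_smul, z2_add_self]

theorem quad_sum (P : Finset α) (σ τ : α → α) (hσ : ∀ a ∈ P, σ a ∈ P ∧ σ (σ a) = a ∧ σ a ≠ a)
    (hτ : ∀ a ∈ P, τ a ∈ P ∧ τ (τ a) = a ∧ τ a ≠ a ∧ τ a ≠ σ a ∧ τ (σ a) = σ (τ a))
    (f : α → ZMod 2) (δ : ZMod 2) (hδ : ∀ a ∈ P, f a + f (σ a) + (f (τ a) + f (σ (τ a))) = δ) :
    ∑ a ∈ P, f a = (P.card / 4) • δ := by
  induction P using Finset.strongInduction with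
  | _ P ih =>
    rcases P.eq_empty_or_nonempty with rfl | ⟨a, ha⟩
    · simp
    obtain ⟨h1, h2, h3⟩ := hσ a ha
    obtain ⟨g1, g2, g3, g4, g5⟩ := hτ a ha
    obtain ⟨m1, m2, m3⟩ := hσ (τ a) g1
    have hb : σ a ∈ P.erase a := Finset.mem_erase.2 ⟨h3, h1⟩
    have hc : τ a ∈ (P.erase a).erase (σ a) := Finset.mem_erase.2 ⟨g4, Finset.mem_erase.2 ⟨g3, g1⟩⟩
    have e1 : σ (τ a) ≠ a := fun e => g4 (by rw [← m2, e])
    have e2 : σ (τ a) ≠ σ a := fun e => g3 (by rw [← m2, e, h2])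
    have hd : σ (τ a) ∈ ((P.erase a).erase (σ a)).erase (τ a) :=
      Finset.mem_erase.2 ⟨m3, Finset.mem_erase.2 ⟨e2, Finset.mem_erase.2 ⟨e1, m1⟩⟩⟩
    set R := (((P.erase a).erase (σ a)).erase (τ a)).erase (σ (τ a)) with hR'
    have hmem : ∀ b, b ∈ R ↔ b ∈ P ∧ b ≠ a ∧ b ≠ σ a ∧ b ≠ τ a ∧ b ≠ σ (τ a) := by
      intro b
      simp only [hR', Finset.mem_erase]
      tauto
    have hRσ : ∀ b ∈ R, σ b ∈ R ∧ σ (σ b) = b ∧ σ b ≠ b := by
      intro b hb'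
      obtain ⟨k0, k1, k2, k3, k4⟩ := (hmem b).1 hb'
      obtain ⟨j1, j2, j3⟩ := hσ b k0
      refine ⟨(hmem _).2 ⟨j1, fun e => k2 ?_, fun e => k1 ?_, fun e => k4 ?_, fun e => k3 ?_⟩, j2, j3⟩
      · rw [← j2, e]
      · rw [← j2, e, h2]
      · rw [← j2, e]
      · rw [← j2, e, m2]
    have hRτ : ∀ b ∈ R, τ b ∈ R ∧ τ (τ b) = b ∧ τ b ≠ b ∧ τ b ≠ σ b ∧ τ (σ b) = σ (τ b) := by
      intro b hb'
      obtain ⟨k0, k1, k2, k3, k4⟩ := (hmem b).1 hb'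
      obtain ⟨j1, j2, j3, j4, j5⟩ := hτ b k0
      obtain ⟨-, s2, -, -, s5⟩ := hτ (σ a) h1
      refine ⟨(hmem _).2 ⟨j1, fun e => k3 ?_, fun e => k4 ?_, fun e => k1 ?_, fun e => k2 ?_⟩, j2, j3, j4, j5⟩
      · rw [← j2, e]
      · rw [← j2, e, g5]
      · rw [← j2, e, g2]
      · rw [← j2, e, ← g5, s2]
    have hss : R ⊂ P :=
      (((Finset.erase_subset _ _).trans (Finset.erase_subset _ _)).trans (Finset.erase_subset _ _)).trans_ssubset
        (Finset.erase_ssubset ha)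
    rw [← Finset.add_sum_erase P f ha, ← Finset.add_sum_erase _ f hb, ← Finset.add_sum_erase _ f hc,
      ← Finset.add_sum_erase _ f hd, ← hR',
      ih R hss hRσ hRτ (fun b hb' => hδ b ((hmem b).1 hb').1), ← hδ a ha]
    have hcard : R.card + 4 = P.card := by
      rw [hR', Finset.card_erase_of_mem hd, Finset.card_erase_of_mem hc, Finset.card_erase_of_mem hb,
        Finset.card_erase_of_mem ha]
      have := Finset.card_pos.2 ⟨_, hd⟩
      rw [Finset.card_erase_of_mem hc, Finset.card_erase_of_mem hb, Finset.card_erase_of_mem ha] at this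
      omega
    rw [show P.card / 4 = R.card / 4 + 1 by omega, add_smul, one_smul]
    abel

theorem quad_sum_zero (P : Finset α) (σ τ : α → α) (hσ : ∀ a ∈ P, σ a ∈ P ∧ σ (σ a) = a ∧ σ a ≠ a)
    (hτ : ∀ a ∈ P, τ a ∈ P ∧ τ (τ a) = a ∧ τ a ≠ a ∧ τ a ≠ σ a ∧ τ (σ a) = σ (τ a))
    (f : α → ZMod 2) (δ : ZMod 2) (hδ : ∀ a ∈ P, f a + f (σ a) + (f (τ a) + f (σ (τ a))) = δ)
    (h8 : 8 ∣ P.card) : ∑ a ∈ P, f a = 0 := by
  rw [quad_sum P σ τ hσ hτ f δ hδ]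
  obtain ⟨k, hk⟩ := h8
  rw [hk, show 8 * k / 4 = k + k by omega, add_smul, z2_add_self]

end Cfsg.Lib.LargeTransfer
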