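import Cfsg.Agent.LargeExtra.Symmetry
import Cfsg.Agent.InvolCalc.LargeTransfer.Sums

/-!
The transfer of a linear character of the centralizer of an involution, read on the conjugates
of the involution.
-/

set_option autoImplicit false
set_option linter.unusedSectionVars false
set_option linter.style.haveILetI false

namespace Cfsg.Lib.LargeTransfer

open Subgroup

variable {G : Type*} [Group G]

/-- `E` is a large extraspecial subgroup for `z`. -/
structure Env (E : Subgroup G) (z : G) : Prop where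
  x2 : Cfsg.Lib.LargeExtra.X2 E z
  cen : centralizer (E : Set G) ≤ E
  norm : centralizer ({z} : Set G) ≤ normalizer (E : Set G)

/-- `χ` is additive on the centralizer of `z`. -/
structure Lin (z : G) (χ : G → ZMod 2) : Prop where
  add : ∀ a b, Commute a z → Commute b z → χ (a * b) = χ a + χ b
  res : ∀ T : G → ZMod 2, (∀ a b, T (a * b) = T a + T b) → ∀ g, T g = 0

theorem res_of_top (h : Cfsg.pResidual 2 G = ⊤) (T : G → ZMod 2) (hT : ∀ a b, T (a * b) = T a + T b)
    (g : G) : T g = 0 := by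
  have h1 : T 1 = 0 := by simpa using hT 1 1
  have hg : g ∈ Cfsg.pResidual 2 G := h ▸ Subgroup.mem_top g
  rw [Cfsg.pResidual] at hg
  induction hg using Subgroup.closure_induction with
  | mem y hy =>
    have hodd : Odd (orderOf y) := Nat.coprime_two_right.1 hy
    have hk : ∀ k : ℕ, T (y ^ k) = (k : ZMod 2) * T y := by
      intro k
      induction k with
      | zero => simp [h1]
      | succ k ih => rw [pow_succ, hT, ih]; push_cast; ring
    have := hk (orderOf y)
    rw [pow_orderOf_eq_one, h1] at this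
    obtain ⟨j, hj⟩ := hodd
    rw [hj] at this
    push_cast at this
    rw [show (2 : ZMod 2) = 0 by decide, zero_mul, zero_add, one_mul] at this
    exact this.symm
  | one => exact h1
  | mul a b _ _ ha hb => rw [hT, ha, hb, add_zero]
  | inv a _ ha =>
    have := hT a⁻¹ a
    rw [inv_mul_cancel, h1, ha, add_zero] at this
    exact this.symm

theorem commute_conj_iff {g x w : G} : Commute (g⁻¹ * x * g) w ↔ Commute x (g * w * g⁻¹) := by
  constructor
  · intro h
    calc x * (g * w * g⁻¹) = g * (g⁻¹ * x * g * w) * g⁻¹ := by group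
      _ = g * (w * (g⁻¹ * x * g)) * g⁻¹ := by rw [h.eq]
      _ = _ := by group
  · intro h
    calc g⁻¹ * x * g * w = g⁻¹ * (x * (g * w * g⁻¹)) * g := by group
      _ = g⁻¹ * (g * w * g⁻¹ * x) * g := by rw [h.eq]
      _ = _ := by group

theorem conj_fix {a w : G} (h : Commute a w) : a * w * a⁻¹ = w := by rw [h.eq, mul_inv_cancel_right]

theorem conj_fix_iff {a w : G} : a * w * a⁻¹ = w ↔ Commute a w :=
  ⟨fun h => mul_inv_eq_iff_eq_mul.1 h, conj_fix⟩

variable {z : G} {χ : G → ZMod 2} (L : Lin z χ)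
include L

theorem Lin.one : χ 1 = 0 := by
  simpa using L.add 1 1 (Commute.one_left z) (Commute.one_left z)

theorem Lin.inv {a : G} (ha : Commute a z) : χ a⁻¹ = χ a := by
  have := L.add a⁻¹ a ha.inv_left ha
  rw [inv_mul_cancel, L.one] at this
  have h2 := congrArg (· + χ a) this
  simp only [zero_add, add_assoc, z2_add_self, add_zero] at h2
  exact h2.symm

theorem Lin.conj {h a : G} (hh : Commute h z) (ha : Commute a z) : χ (h * a * h⁻¹) = χ a := by
  rw [L.add _ _ (hh.mul_left ha) hh.inv_left, L.add _ _ hh ha, L.inv hh, add_right_comm, z2_add_self, zero_add]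

theorem Lin.sq {a : G} (ha : Commute a z) : χ (a * a) = 0 := by rw [L.add a a ha ha, z2_add_self]

omit L

open Classical in
/-- A conjugating element. -/
noncomputable def rep (z c : G) : G := if h : ∃ g, g * z * g⁻¹ = c then h.choose else 1

theorem rep_spec {c : G} (hc : IsConj z c) : rep z c * z * (rep z c)⁻¹ = c := by
  have h := isConj_iff.1 hc
  rw [rep, dif_pos h]
  exact h.choose_spec

/-- The character moved to the conjugate `c`. -/
noncomputable def tw (χ : G → ZMod 2) (z c x : G) : ZMod 2 := χ ((rep z c)⁻¹ * x * rep z c)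

theorem comm_rep {c x : G} (hc : IsConj z c) (hx : Commute x c) : Commute ((rep z c)⁻¹ * x * rep z c) z := by
  rw [commute_conj_iff, rep_spec hc]
  exact hx

theorem isConj_conj {c : G} (hc : IsConj z c) (a : G) : IsConj z (a * c * a⁻¹) :=
  hc.trans (isConj_iff.2 ⟨a, rfl⟩)

include L

theorem Lin.tw_rep {c g x : G} (hg : g * z * g⁻¹ = c) (hx : Commute x c) :
    χ (g⁻¹ * x * g) = tw χ z c x := by
  have hc : IsConj z c := isConj_iff.2 ⟨g, hg⟩
  have hh : Commute (g⁻¹ * rep z c) z := by
    have e : g * z * g⁻¹ = rep z c * z * (rep z c)⁻¹ := hg.trans (rep_spec hc).symm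
    calc g⁻¹ * rep z c * z = g⁻¹ * (rep z c * z * (rep z c)⁻¹) * rep z c := by group
      _ = g⁻¹ * (g * z * g⁻¹) * rep z c := by rw [e]
      _ = _ := by group
  rw [tw, show g⁻¹ * x * g = g⁻¹ * rep z c * ((rep z c)⁻¹ * x * rep z c) * (g⁻¹ * rep z c)⁻¹ by group,
    L.conj hh (comm_rep hc hx)]

theorem Lin.tw_base {x : G} (hx : Commute x z) : tw χ z z x = χ x := by
  rw [← L.tw_rep (g := 1) (by group) hx]
  simp

theorem Lin.tw_add {c a b : G} (hc : IsConj z c) (ha : Commute a c) (hb : Commute b c) :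
    tw χ z c (a * b) = tw χ z c a + tw χ z c b := by
  rw [tw, show (rep z c)⁻¹ * (a * b) * rep z c =
    ((rep z c)⁻¹ * a * rep z c) * ((rep z c)⁻¹ * b * rep z c) by group,
    L.add _ _ (comm_rep hc ha) (comm_rep hc hb)]
  rfl

theorem Lin.tw_one {c : G} : tw χ z c 1 = 0 := by
  rw [tw]
  simp [L.one]

theorem Lin.tw_inv {c a : G} (hc : IsConj z c) (ha : Commute a c) : tw χ z c a⁻¹ = tw χ z c a := by
  rw [tw, show (rep z c)⁻¹ * a⁻¹ * rep z c = ((rep z c)⁻¹ * a * rep z c)⁻¹ by group, L.inv (comm_rep hc ha)]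
  rfl

theorem Lin.tw_conj {c x : G} (a : G) (hc : IsConj z c) (hx : Commute x c) :
    tw χ z (a * c * a⁻¹) (a * x * a⁻¹) = tw χ z c x := by
  have hx' : Commute (a * x * a⁻¹) (a * c * a⁻¹) := hx.map (MulAut.conj a).toMonoidHom
  rw [← L.tw_rep (g := a * rep z c) (c := a * c * a⁻¹) (by
    conv_rhs => rw [← rep_spec hc]
    group) hx', tw]
  congr 1
  group

theorem Lin.tw_conj' {c y : G} (a : G) (hc : IsConj z c) (hy : Commute y (a * c * a⁻¹)) :
    tw χ z (a * c * a⁻¹) y = tw χ z c (a⁻¹ * y * a) := by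
  rw [← L.tw_conj a hc (commute_conj_iff.2 hy)]
  congr 1
  group

omit L

open Classical in
/-- The conjugates of `z`. -/
noncomputable def cls [Fintype G] (z : G) : Finset G := Finset.univ.filter fun c => IsConj z c

theorem mem_cls [Fintype G] {c : G} : c ∈ cls z ↔ IsConj z c := by
  simp [cls]

open Classical in
/-- The transfer. -/
noncomputable def trans [Fintype G] (χ : G → ZMod 2) (z g : G) : ZMod 2 :=
  ∑ c ∈ cls z, χ ((rep z (g * c * g⁻¹))⁻¹ * g * rep z c)

theorem step_comm {g c : G} (hc : IsConj z c) : Commute ((rep z (g * c * g⁻¹))⁻¹ * g * rep z c) z := by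
  set r := rep z (g * c * g⁻¹)
  have e1 : r * z * r⁻¹ = g * c * g⁻¹ := rep_spec (isConj_conj hc g)
  calc r⁻¹ * g * rep z c * z = r⁻¹ * g * (rep z c * z * (rep z c)⁻¹) * rep z c := by group
    _ = r⁻¹ * (g * c * g⁻¹) * g * rep z c := by rw [rep_spec hc]; group
    _ = r⁻¹ * (r * z * r⁻¹) * g * rep z c := by rw [e1]
    _ = _ := by group

include L

theorem Lin.trans_add [Fintype G] (a b : G) : trans χ z (a * b) = trans χ z a + trans χ z b := by
  classical
  rw [trans, trans, trans]
  have h1 : ∑ c ∈ cls z, χ ((rep z (a * c * a⁻¹))⁻¹ * a * rep z c) =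
      ∑ c ∈ cls z, χ ((rep z (a * (b * c * b⁻¹) * a⁻¹))⁻¹ * a * rep z (b * c * b⁻¹)) := by
    refine (Finset.sum_bij' (fun c _ => b * c * b⁻¹) (fun c _ => b⁻¹ * c * b) ?_ ?_ ?_ ?_ ?_).symm
    · exact fun c hc => mem_cls.2 (isConj_conj (mem_cls.1 hc) b)
    · exact fun c hc => mem_cls.2 (by simpa using isConj_conj (mem_cls.1 hc) b⁻¹)
    · intro c _; group
    · intro c _; group
    · intro c _; rfl
  rw [h1, ← Finset.sum_add_distrib]
  refine Finset.sum_congr rfl fun c hc => ?_
  have hc' := mem_cls.1 hc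
  rw [← L.add _ _ (step_comm (isConj_conj hc' b)) (step_comm hc')]
  congr 1
  rw [show a * (b * c * b⁻¹) * a⁻¹ = a * b * c * (a * b)⁻¹ by group]
  group

/-- Only fixed conjugates count. -/
theorem Lin.fixed_sum [Fintype G] [DecidableEq G] {x : G}
    (hlow : ∀ (g : G) (k : ℕ), 2 ≤ k → k ∣ orderOf x → Commute (g⁻¹ * x ^ k * g) z →
      χ (g⁻¹ * x ^ k * g) = 0)
    (s : Finset G) (hs : ∀ c, c ∈ s ↔ IsConj z c ∧ Commute x c) :
    ∑ c ∈ s, tw χ z c x = 0 := by
  classical
  have h0 : trans χ z x = 0 := L.res _ L.trans_add x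
  rw [trans] at h0
  set t : G → ZMod 2 := fun c => χ ((rep z (x * c * x⁻¹))⁻¹ * x * rep z c) with ht
  have hsub : s ⊆ cls z := fun c hc => mem_cls.2 ((hs c).1 hc).1
  rw [← Finset.sum_sdiff hsub] at h0
  have hfix : ∀ c ∈ s, t c = tw χ z c x := fun c hc => by
    simp only [ht, conj_fix ((hs c).1 hc).2]
    rfl
  rw [Finset.sum_congr rfl hfix] at h0
  suffices hrest : ∀ M : Finset G, (∀ c ∈ M, IsConj z c ∧ ¬ Commute x c) → (∀ c ∈ M, x * c * x⁻¹ ∈ M) →
      ∑ c ∈ M, t c = 0 by
    rwa [hrest (cls z \ s) (fun c hc => by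
        rw [Finset.mem_sdiff, mem_cls, hs] at hc
        exact ⟨hc.1, fun h => hc.2 ⟨hc.1, h⟩⟩) (fun c hc => by
        rw [Finset.mem_sdiff, mem_cls, hs] at hc ⊢
        refine ⟨isConj_conj hc.1 x, fun h => hc.2 ⟨hc.1, ?_⟩⟩
        exact conj_fix_iff.1 (mul_left_cancel (a := x) (mul_right_cancel (b := x⁻¹) (conj_fix h.2)))),
      zero_add] at h0
  intro M
  induction M using Finset.strongInduction with
  | _ M ih =>
    intro hM hclosed
    rcases M.eq_empty_or_nonempty with rfl | ⟨c, hc⟩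
    · simp
    have hex : ∃ k, 0 < k ∧ Commute (x ^ k) c :=
      ⟨orderOf x, orderOf_pos x, by rw [pow_orderOf_eq_one]; exact Commute.one_left c⟩
    set p := Nat.find hex with hp
    obtain ⟨hp0, hpc⟩ := Nat.find_spec hex
    have hp2 : 2 ≤ p := by
      by_contra h
      have h1 : Nat.find hex = 1 := by omega
      rw [h1, pow_one] at hpc
      exact (hM c hc).2 hpc
    have hdvd : p ∣ orderOf x := by
      by_contra h
      have hr : 0 < orderOf x % p := Nat.pos_of_ne_zero fun e => h (Nat.dvd_of_mod_eq_zero e)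
      refine Nat.find_min hex (Nat.mod_lt _ (by omega) : orderOf x % p < p) ⟨hr, ?_⟩
      have h1 : x ^ (orderOf x % p) = ((x ^ p) ^ (orderOf x / p))⁻¹ := by
        refine eq_inv_of_mul_eq_one_left ?_
        rw [← pow_mul, ← pow_add, Nat.mod_add_div, pow_orderOf_eq_one]
      rw [h1]
      exact (hpc.pow_left _).inv_left
    have hpts : ∀ i, x ^ i * c * (x ^ i)⁻¹ ∈ M := by
      intro i
      induction i with
      | zero => simpa using hc
      | succ i ihi =>
        rw [show x ^ (i + 1) * c * (x ^ (i + 1))⁻¹ = x * (x ^ i * c * (x ^ i)⁻¹) * x⁻¹ by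
          rw [pow_succ']; group]
        exact hclosed _ ihi
    have hinj : ∀ i < p, ∀ j < p, x ^ i * c * (x ^ i)⁻¹ = x ^ j * c * (x ^ j)⁻¹ → i = j := by
      have key : ∀ i j, i < j → j < p → x ^ i * c * (x ^ i)⁻¹ ≠ x ^ j * c * (x ^ j)⁻¹ := by
        intro i j hij hj e
        refine Nat.find_min hex (show j - i < p by omega) ⟨by omega, ?_⟩
        rw [show j = i + (j - i) by omega, pow_add] at e
        have e' : c = x ^ (j - i) * c * (x ^ (j - i))⁻¹ := by
          calc c = (x ^ i)⁻¹ * (x ^ i * c * (x ^ i)⁻¹) * x ^ i := by group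
            _ = (x ^ i)⁻¹ * (x ^ i * x ^ (j - i) * c * (x ^ i * x ^ (j - i))⁻¹) * x ^ i := by rw [e]
            _ = _ := by group
        exact conj_fix_iff.1 e'.symm
      intro i hi j hj e
      rcases lt_trichotomy i j with h | h | h
      · exact absurd e (key i j h hj)
      · exact h
      · exact absurd e.symm (key j i h hi)
    set O := (Finset.range p).image fun i => x ^ i * c * (x ^ i)⁻¹ with hO
    have hOM : O ⊆ M := fun a ha => by
      obtain ⟨i, -, rfl⟩ := Finset.mem_image.1 ha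
      exact hpts i
    have hcO : c ∈ O := Finset.mem_image.2 ⟨0, Finset.mem_range.2 (by omega), by simp⟩
    have hOsum : ∑ a ∈ O, t a = 0 := by
      rw [hO, Finset.sum_image (fun i hi j hj e => hinj i (by simpa using hi) j (by simpa using hj) e)]
      have hcj : IsConj z c := (hM c hc).1
      have htel : ∀ n, ∑ i ∈ Finset.range n, t (x ^ i * c * (x ^ i)⁻¹) =
          χ ((rep z (x ^ n * c * (x ^ n)⁻¹))⁻¹ * x ^ n * rep z c) := by
        intro n
        induction n with
        | zero => simp [L.one]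
        | succ n ihn =>
          rw [Finset.sum_range_succ, ihn, ht]
          simp only
          rw [add_comm, ← L.add _ _ (step_comm (isConj_conj hcj _)) (step_comm hcj)]
          congr 1
          rw [show x * (x ^ n * c * (x ^ n)⁻¹) * x⁻¹ = x ^ (n + 1) * c * (x ^ (n + 1))⁻¹ by
            rw [pow_succ']; group, pow_succ']
          group
      rw [htel p, conj_fix hpc]
      exact hlow _ p hp2 hdvd (comm_rep hcj hpc)
    rw [← Finset.sum_sdiff hOM, hOsum, add_zero]
    refine ih (M \ O) (Finset.sdiff_ssubset hOM ⟨c, hcO⟩) (fun a ha => hM a (Finset.mem_sdiff.1 ha).1) ?_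
    intro a ha
    rw [Finset.mem_sdiff] at ha ⊢
    refine ⟨hclosed a ha.1, fun h => ha.2 ?_⟩
    obtain ⟨i, hi, e⟩ := Finset.mem_image.1 h
    rw [Finset.mem_range] at hi
    rcases Nat.eq_zero_or_pos i with rfl | hi0
    · refine Finset.mem_image.2 ⟨p - 1, Finset.mem_range.2 (by omega), ?_⟩
      have e0 : c = x * a * x⁻¹ := by simpa using e
      have e1 : x ^ p * c * (x ^ p)⁻¹ = x * a * x⁻¹ := (conj_fix hpc).trans e0
      rw [show p = p - 1 + 1 by omega, pow_succ'] at e1
      calc x ^ (p - 1) * c * (x ^ (p - 1))⁻¹ = x⁻¹ * (x * x ^ (p - 1) * c * (x * x ^ (p - 1))⁻¹) * x := by group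
        _ = x⁻¹ * (x * a * x⁻¹) * x := by rw [e1]
        _ = a := by group
    · refine Finset.mem_image.2 ⟨i - 1, Finset.mem_range.2 (by omega), ?_⟩
      rw [show i = i - 1 + 1 by omega, pow_succ'] at e
      calc x ^ (i - 1) * c * (x ^ (i - 1))⁻¹ = x⁻¹ * (x * x ^ (i - 1) * c * (x * x ^ (i - 1))⁻¹) * x := by group
        _ = x⁻¹ * (x * a * x⁻¹) * x := by rw [e]
        _ = a := by group

end Cfsg.Lib.LargeTransfer
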