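import Cfsg.Agent.InvolCalc.LargeTransfer.MinusFlat

/-!
Width one, and abelian quotients of the centralizer.
-/

set_option autoImplicit false
set_option linter.unusedSectionVars false
set_option linter.style.haveILetI false
set_option synthInstance.maxSize 2000

namespace Cfsg.Lib.LargeTransfer

open Subgroup
open scoped commutatorElement

variable {G : Type*} [Group G] [Fintype G] [DecidableEq G]
variable {E : Subgroup G} {z : G}

/-- A linear map of the plane. -/
def plane (p q : ZMod 2 × ZMod 2) (v : ZMod 2 × ZMod 2) : ZMod 2 × ZMod 2 :=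
  (v.1 * p.1 + v.2 * q.1, v.1 * p.2 + v.2 * q.2)

theorem plane_six : ∀ p q : ZMod 2 × ZMod 2, p ≠ 0 → q ≠ 0 → p ≠ q → ∀ v, (plane p q)^[6] v = v := by decide

theorem plane_two : ∀ p q w : ZMod 2 × ZMod 2, p ≠ 0 → q ≠ 0 → p ≠ q → w ≠ 0 → plane p q w = w →
    ∀ v, (plane p q)^[2] v = v := by decide

/-- In width one the squares of 2-elements are commutators. -/
theorem sq_mem_commutator (V : Env E z) (h8 : Nat.card E = 8)
    (hmax : ∀ N : Subgroup G, N ≤ centralizer ({z} : Set G) → IsPGroup 2 N →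
      centralizer ({z} : Set G) ≤ normalizer (N : Set G) → N ≤ E)
    {h : G} (hh : Commute h z) {a : ℕ} (ha : h ^ 2 ^ a = 1) :
    h * h ∈ ⁅centralizer ({z} : Set G), centralizer ({z} : Set G)⁆ := by
  classical
  set H := centralizer ({z} : Set G) with hH
  have hzH : ∀ k, k ∈ H ↔ Commute k z := fun k => mem_centralizer_singleton_iff
  have hEH : ∀ e ∈ E, e ∈ H := fun e he => (hzH e).2 (V.comm_z he)
  obtain ⟨u, hu, v, hv, huv⟩ : ∃ u ∈ E, ∃ v ∈ E, ¬ Commute u v := by
    by_contra! hall
    have hsub : Finset.univ.filter (· ∈ E) ⊆ ({1, z} : Finset G) := fun e he => by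
      have he' := (Finset.mem_filter.1 he).2
      simpa using V.cent_all fun w hw => hall w hw e he'
    have h2 := (Finset.card_le_card hsub).trans Finset.card_le_two
    rw [← Fintype.card_subtype, ← Nat.card_eq_fintype_card, h8] at h2
    omega
  let cls : G → ZMod 2 × ZMod 2 := fun e => (cm e v, cm e u)
  have hclsm : ∀ x ∈ E, ∀ y ∈ E, cls (x * y) = cls x + cls y := fun x hx y hy => by
    simp [cls, V.cm_mul hx hy hu, V.cm_mul hx hy hv]
  have hcu : cls u = (1, 0) := by simp [cls, cm, huv]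
  have hvu' : ¬ Commute v u := fun e => huv e.symm
  have hcv : cls v = (0, 1) := by simp [cls, cm, hvu']
  have hker : ∀ e ∈ E, cls e = 0 → e = 1 ∨ e = z := by
    set K := (Finset.univ.filter (· ∈ E)).filter fun e => cls e = 0 with hK
    have hcard : 4 * K.card ≤ 8 := by
      have hsub : (({1, u, v, u * v} : Finset G) ×ˢ K).image (fun p => p.1 * p.2) ⊆ Finset.univ.filter (· ∈ E) := by
        intro w hw
        obtain ⟨⟨p, k⟩, hpk, rfl⟩ := Finset.mem_image.1 hw
        simp only [Finset.mem_product, Finset.mem_insert, Finset.mem_singleton, hK, Finset.mem_filter,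
          Finset.mem_univ, true_and] at hpk
        refine Finset.mem_filter.2 ⟨Finset.mem_univ _, E.mul_mem ?_ hpk.2.1⟩
        rcases hpk.1 with rfl | rfl | rfl | rfl
        exacts [E.one_mem, hu, hv, E.mul_mem hu hv]
      have hcl : ∀ p ∈ ({1, u, v, u * v} : Finset G), p ∈ E := by
        intro p hp
        simp only [Finset.mem_insert, Finset.mem_singleton] at hp
        rcases hp with rfl | rfl | rfl | rfl
        exacts [E.one_mem, hu, hv, E.mul_mem hu hv]
      have c0 : cls 1 = 0 := by simp [cls, cm]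
      have c3 : cls (u * v) = (1, 1) := by rw [hclsm u hu v hv, hcu, hcv]; rfl
      have hinj : Set.InjOn (fun p : G × G => p.1 * p.2) ↑(({1, u, v, u * v} : Finset G) ×ˢ K) := by
        rintro ⟨p, k⟩ hp ⟨p', k'⟩ hp' e
        simp only [Finset.coe_product, Set.mem_prod, Finset.mem_coe, hK, Finset.mem_filter, Finset.mem_univ,
          true_and] at hp hp'
        have e' : cls p = cls p' := by
          have := congrArg cls e
          rwa [hclsm p (hcl p hp.1) k hp.2.1, hclsm p' (hcl p' hp'.1) k' hp'.2.1, hp.2.2, hp'.2.2, add_zero,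
            add_zero] at this
        have hpp : p = p' := by
          obtain ⟨h1, -⟩ := hp
          obtain ⟨h1', -⟩ := hp'
          simp only [Finset.mem_insert, Finset.mem_singleton] at h1 h1'
          rcases h1 with rfl | rfl | rfl | rfl <;> rcases h1' with rfl | rfl | rfl | rfl <;>
            first | rfl | (simp only [c0, c3, hcu, hcv] at e'; exact absurd e' (by decide))
        subst hpp
        exact Prod.ext rfl (mul_left_cancel e)
      have h4 : ({1, u, v, u * v} : Finset G).card = 4 := by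
        have d : ∀ {p q : G}, cls p ≠ cls q → p ≠ q := fun h e => h (congrArg cls e)
        have a1 : (1 : G) ≠ u := d (by rw [c0, hcu]; decide)
        have a2 : (1 : G) ≠ v := d (by rw [c0, hcv]; decide)
        have a3 : (1 : G) ≠ u * v := d (by rw [c0, c3]; decide)
        have a4 : u ≠ v := d (by rw [hcu, hcv]; decide)
        have a5 : u ≠ u * v := d (by rw [hcu, c3]; decide)
        have a6 : v ≠ u * v := d (by rw [hcv, c3]; decide)
        rw [Finset.card_insert_of_notMem (by simp [a1, a2, a3]),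
          Finset.card_insert_of_notMem (by simp [a4, a5]), Finset.card_pair a6]
      have := Finset.card_le_card hsub
      rw [Finset.card_image_of_injOn hinj, Finset.card_product, h4, ← Fintype.card_subtype,
        ← Nat.card_eq_fintype_card, h8] at this
      exact this
    intro e he hce
    by_contra! hne
    have h3 : 3 ≤ K.card := by
      refine le_trans (le_of_eq ?_) (Finset.card_le_card (s := ({1, z, e} : Finset G)) ?_)
      · rw [Finset.card_insert_of_notMem (by simp [Ne.symm V.x2.ne, Ne.symm hne.1]),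
          Finset.card_pair (Ne.symm hne.2)]
      · intro w hw
        simp only [Finset.mem_insert, Finset.mem_singleton] at hw
        simp only [hK, Finset.mem_filter, Finset.mem_univ, true_and]
        rcases hw with rfl | rfl | rfl
        · exact ⟨E.one_mem, by simp [cls, cm]⟩
        · exact ⟨V.x2.mem, by simp [cls, cm, (V.comm_z hu).symm, (V.comm_z hv).symm]⟩
        · exact ⟨he, hce⟩
    omega
  have hcase : ∀ x : ZMod 2 × ZMod 2, x = 0 ∨ x = (1, 0) ∨ x = (0, 1) ∨ x = (1, 0) + (0, 1) := by decide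
  have hgen : ∀ w, (Commute w u ∧ Commute w v ∧ Commute w z) → ∀ e ∈ E, Commute e w := by
    intro w hw e he
    obtain ⟨p, hp, hpe⟩ : ∃ p, Commute w p ∧ (p ∈ E ∧ cls (p⁻¹ * e) = 0) := by
      have c0 : cls 1 = 0 := by simp [cls, cm]
      have inv : ∀ p ∈ E, cls p⁻¹ = cls p := fun p hp => by
        have := hclsm p⁻¹ (E.inv_mem hp) p hp
        rw [inv_mul_cancel, c0] at this
        exact (by decide : ∀ a b : ZMod 2 × ZMod 2, 0 = a + b → a = b) _ _ this
      have self : ∀ a : ZMod 2 × ZMod 2, a + a = 0 := by decide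
      rcases hcase (cls e) with h | h | h | h
      · exact ⟨1, Commute.one_right w, E.one_mem, by simpa using h⟩
      · exact ⟨u, hw.1, hu, by rw [hclsm _ (E.inv_mem hu) _ he, inv u hu, hcu, h, self]⟩
      · exact ⟨v, hw.2.1, hv, by rw [hclsm _ (E.inv_mem hv) _ he, inv v hv, hcv, h, self]⟩
      · exact ⟨u * v, hw.1.mul_right hw.2.1, E.mul_mem hu hv,
          by rw [hclsm _ (E.inv_mem (E.mul_mem hu hv)) _ he, inv _ (E.mul_mem hu hv), hclsm u hu v hv, hcu, hcv,
            h, self]⟩
    have h1 : Commute w (p⁻¹ * e) := by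
      rcases hker _ (E.mul_mem (E.inv_mem hpe.1) he) hpe.2 with e' | e' <;> rw [e']
      · exact Commute.one_right w
      · exact hw.2.2
    have := hp.mul_right h1
    rw [mul_inv_cancel_left] at this
    exact this.symm
  -- the action
  have hact : ∀ k, Commute k z → ∀ e ∈ E,
      cls (k * e * k⁻¹) = plane (cls (k * u * k⁻¹)) (cls (k * v * k⁻¹)) (cls e) := by
    intro k hk e he
    have hm : ∀ x ∈ E, k * x * k⁻¹ ∈ E := fun x hx => V.conjE hk hx
    have add : ∀ x ∈ E, ∀ y ∈ E, cls (k * (x * y) * k⁻¹) = cls (k * x * k⁻¹) + cls (k * y * k⁻¹) := fun x hx y hy => by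
      rw [← hclsm _ (hm x hx) _ (hm y hy)]; congr 1; group
    have k0 : cls (k * 1 * k⁻¹) = 0 := by simp [cls, cm]
    have kz : cls (k * z * k⁻¹) = 0 := by
      rw [conj_fix hk]; simp [cls, cm, (V.comm_z hu).symm, (V.comm_z hv).symm]
    have c0 : cls 1 = 0 := by simp [cls, cm]
    have inv : ∀ p ∈ E, cls p⁻¹ = cls p := fun p hp => by
      have := hclsm p⁻¹ (E.inv_mem hp) p hp
      rw [inv_mul_cancel, c0] at this
      exact (by decide : ∀ a b : ZMod 2 × ZMod 2, 0 = a + b → a = b) _ _ this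
    have self : ∀ a : ZMod 2 × ZMod 2, a + a = 0 := by decide
    have key : ∀ p ∈ E, cls e = cls p → cls (k * e * k⁻¹) = cls (k * p * k⁻¹) := by
      intro p hp h
      have h0 : cls (p⁻¹ * e) = 0 := by rw [hclsm _ (E.inv_mem hp) _ he, inv p hp, h, self]
      rw [show e = p * (p⁻¹ * e) by group, add p hp _ (E.mul_mem (E.inv_mem hp) he)]
      rcases hker _ (E.mul_mem (E.inv_mem hp) he) h0 with e' | e' <;> rw [e']
      · rw [k0, add_zero]
      · rw [kz, add_zero]
    obtain ⟨p0, p1, p2, p3⟩ := (by decide : ∀ p q : ZMod 2 × ZMod 2, plane p q 0 = 0 ∧ plane p q (1, 0) = p ∧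
      plane p q (0, 1) = q ∧ plane p q ((1, 0) + (0, 1)) = p + q) (cls (k * u * k⁻¹)) (cls (k * v * k⁻¹))
    rcases hcase (cls e) with h | h | h | h
    · rw [key 1 E.one_mem (by rw [h, c0]), k0, h, p0]
    · rw [key u hu (by rw [h, hcu]), h, p1]
    · rw [key v hv (by rw [h, hcv]), h, p2]
    · rw [key (u * v) (E.mul_mem hu hv) (by rw [h, hclsm u hu v hv, hcu, hcv]), add u hu v hv, h, p3]
  have hne : ∀ k, Commute k z → cls (k * u * k⁻¹) ≠ 0 ∧ cls (k * v * k⁻¹) ≠ 0 ∧
      cls (k * u * k⁻¹) ≠ cls (k * v * k⁻¹) := by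
    intro k hk
    have hn : ¬ Commute (k * u * k⁻¹) (k * v * k⁻¹) := fun e => huv (by
      have := e.map (MulAut.conj k⁻¹).toMonoidHom
      simpa [mul_assoc] using this)
    have hku := V.conjE hk hu
    have hkv := V.conjE hk hv
    refine ⟨fun e => hn ?_, fun e => hn ?_, fun e => hn ?_⟩
    · rcases hker _ hku e with e' | e' <;> rw [e']
      · exact Commute.one_left _
      · exact (V.comm_z hkv).symm
    · rcases hker _ hkv e with e' | e' <;> rw [e']
      · exact Commute.one_right _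
      · exact V.comm_z hku
    · have h0 : cls ((k * u * k⁻¹) * (k * v * k⁻¹)) = 0 := by
        rw [hclsm _ hku _ hkv, e]; exact (by decide : ∀ a : ZMod 2 × ZMod 2, a + a = 0) _
      rcases hker _ (E.mul_mem hku hkv) h0 with e' | e'
      · rw [eq_inv_of_mul_eq_one_right e']; exact (Commute.refl _).inv_right
      · rw [eq_inv_mul_of_mul_eq e']; exact (Commute.refl _).inv_right.mul_right (V.comm_z hku)
  have htriv : ∀ k, Commute k z → (∀ e ∈ E, cls (k * e * k⁻¹) = cls e) → k ∈ E := by
    intro k hk hfix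
    have hpair : ∀ e ∈ E, k * e * k⁻¹ = e ∨ k * e * k⁻¹ = z * e := by
      intro e he
      have hke := V.conjE hk he
      have c0 : cls 1 = 0 := by simp [cls, cm]
      have h0 : cls (k * e * k⁻¹ * e⁻¹) = 0 := by
        rw [hclsm _ hke _ (E.inv_mem he), hfix e he, ← hclsm _ he _ (E.inv_mem he), mul_inv_cancel, c0]
      rcases hker _ (E.mul_mem hke (E.inv_mem he)) h0 with e' | e'
      · exact Or.inl (mul_inv_eq_one.1 e')
      · exact Or.inr (mul_inv_eq_iff_eq_mul.1 e')
    have hvu : ¬ Commute v u := fun e => huv e.symm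
    obtain ⟨r, hr, r1, r2⟩ : ∃ r ∈ E, r * u * r⁻¹ = k * u * k⁻¹ ∧ r * v * r⁻¹ = k * v * k⁻¹ := by
      rcases hpair u hu with a | a <;> rcases hpair v hv with b | b <;> rw [a, b]
      · exact ⟨1, E.one_mem, by group, by group⟩
      · exact ⟨u, hu, by group, V.x2.not_commute_conj hu hv huv⟩
      · exact ⟨v, hv, V.x2.not_commute_conj hv hu hvu, by group⟩
      · refine ⟨u * v, E.mul_mem hu hv, ?_, ?_⟩
        · rw [show u * v * u * (u * v)⁻¹ = u * (v * u * v⁻¹) * u⁻¹ by group, V.x2.not_commute_conj hv hu hvu,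
            show u * (z * u) * u⁻¹ = u * z by group, (V.comm_z hu).eq]
        · rw [show u * v * v * (u * v)⁻¹ = u * v * u⁻¹ by group, V.x2.not_commute_conj hu hv huv]
    have fixes : ∀ {w}, r * w * r⁻¹ = k * w * k⁻¹ → Commute (r⁻¹ * k) w := fun {w} e => conj_fix_iff.1 (by
      calc r⁻¹ * k * w * (r⁻¹ * k)⁻¹ = r⁻¹ * (k * w * k⁻¹) * r := by group
        _ = r⁻¹ * (r * w * r⁻¹) * r := by rw [e]
        _ = w := by group)
    have hall := hgen (r⁻¹ * k) ⟨fixes r1, fixes r2, (V.comm_z hr).inv_left.mul_left hk⟩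
    exact (E.mul_mem_cancel_left (E.inv_mem hr)).1 (V.cen (mem_centralizer_iff.2 fun e he => (hall e he).eq))
  have hiter : ∀ k, Commute k z → ∀ n, ∀ e ∈ E,
      cls (k ^ n * e * (k ^ n)⁻¹) = (plane (cls (k * u * k⁻¹)) (cls (k * v * k⁻¹)))^[n] (cls e) := by
    intro k hk n
    induction n with
    | zero => intro e _; simp
    | succ n ih =>
      intro e he
      rw [Function.iterate_succ_apply', ← ih e he, ← hact k hk _ (V.conjE (hk.pow_left n) he), pow_succ']
      congr 1
      group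
  have hsix : ∀ k, Commute k z → k ^ 6 ∈ E := fun k hk => by
    obtain ⟨n1, n2, n3⟩ := hne k hk
    exact htriv _ (hk.pow_left 6) fun e he => (hiter k hk 6 e he).trans (plane_six _ _ n1 n2 n3 _)
  have hEc : ∀ x ∈ E, x * x ∈ ⁅H, H⁆ := by
    intro x hx
    rcases V.x2.sq x hx with e | e <;> rw [e]
    · exact one_mem _
    · have := Subgroup.commutator_mem_commutator (hEH u hu) (hEH v hv)
      rwa [show ⁅u, v⁆ = z by
        rw [commutatorElement_def, V.x2.not_commute_conj hu hv huv, mul_inv_cancel_right]] at this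
  by_cases hhE : h ∈ E
  · exact hEc h hhE
  have h2 : h * h ∈ E := by
    rw [← pow_two]
    rcases Nat.eq_zero_or_pos a with rfl | ha0
    · rw [pow_zero, pow_one] at ha
      rw [ha, one_pow]
      exact E.one_mem
    obtain ⟨k, rfl⟩ := Nat.exists_eq_add_of_le ha0
    have h6 : (h ^ 2) ^ 3 ∈ E := by rw [← pow_mul]; exact hsix h hh
    have hp : (h ^ 2) ^ 2 ^ k = 1 := by rw [← pow_mul, ← pow_succ', add_comm k 1, ha]
    obtain ⟨m, hm⟩ := exists_pow_eq_self_of_coprime (x := h ^ 2) (n := 3)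
      ((Nat.Coprime.pow_right k (by norm_num : Nat.Coprime 3 2)).coprime_dvd_right (orderOf_dvd_of_pow_eq_one hp))
    exact hm ▸ E.pow_mem h6 m
  have hEle : ∀ x ∈ E, x ∈ ⁅H, H⁆ := by
    obtain ⟨e₁, he₁, hmv⟩ : ∃ e ∈ E, cls (h * e * h⁻¹) ≠ cls e := by
      by_contra! hall
      exact hhE (htriv h hh hall)
    set d := h * e₁ * h⁻¹ * e₁⁻¹ with hd
    have hdE : d ∈ E := E.mul_mem (V.conjE hh he₁) (E.inv_mem he₁)
    have hdH : d ∈ ⁅H, H⁆ := Subgroup.commutator_mem_commutator ((hzH h).2 hh) (hEH e₁ he₁)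
    have hd0 : cls d ≠ 0 := fun e => hmv (by
      have h1 : d * e₁ = h * e₁ * h⁻¹ := by rw [hd]; group
      rw [← h1, hclsm d hdE e₁ he₁, e, zero_add])
    obtain ⟨k, hk, hkd⟩ : ∃ k, Commute k z ∧ cls (k * d * k⁻¹) ≠ cls d := by
      by_contra! hall
      have hP : IsPGroup 2 H := fun k => by
        refine ⟨3, Subtype.ext ?_⟩
        show (k : G) ^ 8 = 1
        have hk := (hzH _).1 k.2
        obtain ⟨n1, n2, n3⟩ := hne _ hk
        have hw : plane _ _ (cls d) = cls d := (hact _ hk d hdE).symm.trans (hall _ hk)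
        have h2 : (k : G) ^ 2 ∈ E := htriv _ (hk.pow_left 2) fun e he =>
          (hiter _ hk 2 e he).trans (plane_two _ _ _ n1 n2 n3 hd0 hw _)
        rw [show (8 : ℕ) = 2 * (2 + 2) from rfl, pow_mul, pow_add, pow_two ((k : G) ^ 2)]
        rcases V.x2.sq _ h2 with e | e <;> rw [e]
        · exact mul_one 1
        · exact V.x2.zz
      exact hhE (hmax H le_rfl hP le_normalizer ((hzH h).2 hh))
    have hk2 : k * d * k⁻¹ ∈ ⁅H, H⁆ := by
      have h1 := Subgroup.commutator_mem_commutator ((hzH k).2 hk) (hEH d hdE)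
      have := mul_mem h1 hdH
      rwa [commutatorElement_def, inv_mul_cancel_right] at this
    have hzc : z ∈ ⁅H, H⁆ := by
      have := Subgroup.commutator_mem_commutator (hEH u hu) (hEH v hv)
      rwa [show ⁅u, v⁆ = z by
        rw [commutatorElement_def, V.x2.not_commute_conj hu hv huv, mul_inv_cancel_right]] at this
    intro x hx
    have hkE := V.conjE hk hdE
    have hd' : cls (k * d * k⁻¹) ≠ 0 := by
      intro e
      obtain ⟨n1, n2, n3⟩ := hne k hk
      rw [hact k hk d hdE] at e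
      exact hd0 ((by decide : ∀ p q w : ZMod 2 × ZMod 2, p ≠ 0 → q ≠ 0 → p ≠ q → plane p q w = 0 → w = 0) _ _ _
        n1 n2 n3 e)
    have span : ∀ a b x : ZMod 2 × ZMod 2, a ≠ 0 → b ≠ 0 → b ≠ a → x = 0 ∨ x = a ∨ x = b ∨ x = a + b := by decide
    have self : ∀ a : ZMod 2 × ZMod 2, a + a = 0 := by decide
    obtain ⟨y, hyE, hyC, hy⟩ : ∃ y, y ∈ E ∧ y ∈ ⁅H, H⁆ ∧ cls (x * y) = 0 := by
      rcases span _ _ (cls x) hd0 hd' hkd with e | e | e | e
      · exact ⟨1, E.one_mem, one_mem _, by simpa using e⟩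
      · exact ⟨d, hdE, hdH, by rw [hclsm x hx d hdE, e, self]⟩
      · exact ⟨_, hkE, hk2, by rw [hclsm x hx _ hkE, e, self]⟩
      · exact ⟨_, E.mul_mem hdE hkE, mul_mem hdH hk2, by
          rw [hclsm x hx _ (E.mul_mem hdE hkE), hclsm d hdE _ hkE, e, self]⟩
    have hmem : x * y ∈ ⁅H, H⁆ := by
      rcases hker _ (E.mul_mem hx hyE) hy with e | e <;> rw [e]
      exacts [one_mem _, hzc]
    exact (Subgroup.mul_mem_cancel_right _ hyC).1 hmem
  exact hEle _ h2

/-- A non-elementary abelian 2-quotient gives a character of order four. -/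
theorem exists_four {A : Type*} [CommGroup A] [Finite A] {q : A} {k : ℕ} (hk : q ^ 2 ^ k = 1) (hq : q ^ 2 ≠ 1) :
    ∃ φ : A →* Multiplicative (ZMod 4), ∃ w, φ w = Multiplicative.ofAdd 1 := by
  classical
  obtain ⟨ι, _, n, hn, ⟨e⟩⟩ := CommGroup.equiv_prod_multiplicative_zmod_of_finite A
  obtain ⟨i, hi⟩ : ∃ i, e q i ^ 2 ≠ 1 := by
    by_contra! h
    apply hq
    apply e.injective
    rw [map_pow, map_one]
    funext i
    exact h i
  have h1 : e q i ^ 2 ^ k = 1 := by
    have := congrArg (fun w => e w i) hk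
    simpa using this
  have h4 : 4 ∣ n i := by
    haveI : NeZero (n i) := ⟨by have := hn i; omega⟩
    obtain ⟨j, -, hj⟩ := (Nat.dvd_prime_pow Nat.prime_two).1 (orderOf_dvd_of_pow_eq_one h1)
    have h2 : orderOf (e q i) ∣ n i := by
      have := orderOf_dvd_natCard (e q i)
      rwa [Nat.card_congr Multiplicative.toAdd, Nat.card_zmod] at this
    have hj2 : 2 ≤ j := by
      by_contra hlt
      refine hi (orderOf_dvd_iff_pow_eq_one.1 ?_)
      rw [hj]
      exact (Nat.pow_dvd_pow 2 (show j ≤ 1 by omega)).trans (by norm_num)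
    exact (Nat.pow_dvd_pow 2 hj2).trans (hj ▸ h2)
  refine ⟨(AddMonoidHom.toMultiplicative (ZMod.castHom h4 (ZMod 4)).toAddMonoidHom).comp
    ((Pi.evalMonoidHom _ i).comp e.toMonoidHom), e.symm (Pi.mulSingle i (Multiplicative.ofAdd 1)), ?_⟩
  simp [ZMod.cast_one h4]

theorem cast_four : ∀ a : ZMod 4, a + a = 0 → ((a.val : ℕ) : ZMod 2) = 0 := by decide

open Classical in
/-- The reduced character. -/
noncomputable def chiPhi (z : G) (φ : ↥(centralizer ({z} : Set G)) →* Multiplicative (ZMod 4)) (g : G) : ZMod 2 :=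
  if hg : g ∈ centralizer ({z} : Set G) then ((φ ⟨g, hg⟩).toAdd.val : ZMod 2) else 0

/-- The quotient is elementary in width at least two. -/
theorem no_four (V : Env E z) (hres : Cfsg.pResidual 2 G = ⊤) (h32 : 32 ≤ Nat.card E)
    (h128 : Nat.card E ≠ 32 → 128 ≤ Nat.card E)
    (hmax : ∀ N : Subgroup G, N ≤ centralizer ({z} : Set G) → IsPGroup 2 N →
      centralizer ({z} : Set G) ≤ normalizer (N : Set G) → N ≤ E)
    (φ : ↥(centralizer ({z} : Set G)) →* Multiplicative (ZMod 4))
    (hsurj : ∃ w, φ w = Multiplicative.ofAdd 1) : False := by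
  classical
  have hadd : ∀ a b : ZMod 4, (((a + b).val : ℕ) : ZMod 2) = (a.val : ZMod 2) + (b.val : ZMod 2) := by decide
  have hmem : ∀ g, Commute g z → g ∈ centralizer ({z} : Set G) := fun g h => mem_centralizer_singleton_iff.2 h.eq
  have L : Lin z (chiPhi z φ) := by
    refine ⟨fun a b ha hb => ?_, res_of_top hres⟩
    unfold chiPhi
    rw [dif_pos (hmem _ (ha.mul_left hb)), dif_pos (hmem a ha), dif_pos (hmem b hb), ← hadd]
    congr 2
    rw [← toAdd_mul, ← map_mul]
    rfl
  have hflat : NoInvol z (chiPhi z φ) → Flat E z (chiPhi z φ) := fun hno => by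
    by_cases h : Nat.card E = 32
    · exact flat_minus V L h (V.kills L h32) hmax hno
    · exact flat_of_big V L (h128 h) hno
  obtain ⟨w, hw⟩ := hsurj
  obtain ⟨x, hxz, hxx, hx⟩ := exists_invol V L h32 hflat ⟨w, mem_centralizer_singleton_iff.1 w.2, by
    have hw2 : w.1 ∈ centralizer ({z} : Set G) := w.2
    unfold chiPhi
    rw [dif_pos hw2, Subtype.coe_eta, hw]
    decide⟩
  have h0 : (φ ⟨x, hmem x hxz⟩).toAdd + (φ ⟨x, hmem x hxz⟩).toAdd = 0 := by
    rw [← toAdd_mul, ← map_mul]
    have : (⟨x, hmem x hxz⟩ : ↥(centralizer ({z} : Set G))) * ⟨x, hmem x hxz⟩ = 1 := Subtype.ext hxx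
    rw [this, map_one, toAdd_one]
  unfold chiPhi at hx
  rw [dif_pos (hmem x hxz), cast_four _ h0] at hx
  exact zero_ne_one hx

end Cfsg.Lib.LargeTransfer
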